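import Mathlib

/-!
# Small facts for the quadratic torus lemma
-/

set_option autoImplicit false

namespace Cfsg.Lib.Local.QuadTorus

open Subgroup

universe u

variable {G : Type u} [Group G] [Finite G] {p : ℕ} [hp : Fact p.Prime]

/-- The Frattini argument, elementwise. -/
theorem frattini_elem' {K P : Subgroup G} (hP : IsPGroup p P) (hPK : P ≤ K) (hidx : ¬ p ∣ P.relIndex K)
    {n : G} (hn : n ∈ normalizer (K : Set G)) : ∃ k ∈ K, k * n ∈ normalizer (P : Set G) := by
  set P' := P.map (MulAut.conj n).toMonoidHom with hP'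
  have hP'K : P' ≤ K := by
    rintro _ ⟨a, ha, rfl⟩
    exact (mem_normalizer_iff.1 hn a).1 (hPK ha)
  let S : Sylow p K := (hP.of_equiv (subgroupOfEquivOfLe hPK).symm).toSylow hidx
  obtain ⟨S', hS'⟩ := ((hP.map _ : IsPGroup p P').of_equiv (subgroupOfEquivOfLe hP'K).symm).exists_le_sylow
  obtain ⟨k, hk⟩ := MulAction.exists_smul_eq K S' S
  refine ⟨k, k.2, mem_normalizer_fintype fun a ha => ?_⟩
  have hmem : n * a * n⁻¹ ∈ P' := ⟨a, ha, rfl⟩
  have h1 : k * ⟨_, hP'K hmem⟩ * k⁻¹ ∈ (S : Subgroup K) := by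
    rw [← hk]
    exact ⟨_, hS' (mem_subgroupOf.2 hmem), rfl⟩
  have h2 := mem_subgroupOf.1 h1
  rw [show (k : G) * n * a * ((k : G) * n)⁻¹ = k * (n * a * n⁻¹) * (k : G)⁻¹ by group]
  exact h2

/-- A `p`-subgroup of `K` lies in a `p`-subgroup of index prime to `p` in `K`. -/
theorem exists_sylow_of_le {K R : Subgroup G} (hR : IsPGroup p R) (hRK : R ≤ K) :
    ∃ P : Subgroup G, R ≤ P ∧ P ≤ K ∧ IsPGroup p P ∧ ¬ p ∣ P.relIndex K := by
  obtain ⟨S, hS⟩ := (hR.of_equiv (subgroupOfEquivOfLe hRK).symm).exists_le_sylow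
  refine ⟨(S : Subgroup K).map K.subtype, fun r hr => ⟨⟨r, hRK hr⟩, hS hr, rfl⟩, map_subtype_le _,
    S.isPGroup'.map _, ?_⟩
  rw [relIndex, subgroupOf, comap_map_eq_self_of_injective K.subtype_injective]
  exact S.not_dvd_index

/-- A subgroup containing a Sylow `p`-subgroup and all elements of order prime to `p`. -/
theorem le_of_coprime_elements {Q M P : Subgroup G} (hPQ : P ≤ Q) (hidx : ¬ p ∣ P.relIndex Q) (hPM : P ≤ M)
    (h : ∀ x ∈ Q, (orderOf x).Coprime p → x ∈ M) : Q ≤ M := by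
  rw [← relIndex_eq_one]
  refine Nat.eq_one_iff_not_exists_prime_dvd.2 fun q hq hd => ?_
  by_cases hqp : q = p
  · subst hqp
    exact hidx (hd.trans (relIndex_dvd_of_le_left _ hPM))
  · haveI : Fact q.Prime := ⟨hq⟩
    obtain ⟨S⟩ : Nonempty (Sylow q Q) := inferInstance
    have hS : (S : Subgroup Q) ≤ M.subgroupOf Q := fun x hx => by
      refine mem_subgroupOf.2 (h x x.2 ?_)
      obtain ⟨i, hi⟩ := S.isPGroup' ⟨x, hx⟩
      rw [orderOf_coe]
      exact Nat.Coprime.coprime_dvd_left (orderOf_dvd_of_pow_eq_one (congrArg Subtype.val hi))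
        (Nat.Coprime.pow_left i ((Nat.coprime_primes hq hp.out).2 hqp))
    exact S.not_dvd_index (hd.trans (index_dvd_of_le hS))

/-- In a `p`-group a proper subgroup grows in its normalizer. -/
theorem lt_inf_normalizer' {S R : Subgroup G} (hS : IsPGroup p S) (hlt : R < S) :
    R < S ⊓ normalizer (R : Set G) := by
  haveI := hS.isNilpotent
  have hne : R.subgroupOf S < ⊤ := lt_top_iff_ne_top.2 fun h => hlt.not_ge (subgroupOf_eq_top.1 h)
  have h1 := Group.normalizerCondition_of_isNilpotent (R.subgroupOf S) hne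
  refine lt_of_le_of_ne (le_inf hlt.le le_normalizer) fun he => h1.not_ge fun x hx => ?_
  refine mem_subgroupOf.2 (he.ge ⟨x.2, mem_normalizer_fintype fun a ha => ?_⟩)
  exact mem_subgroupOf.1 ((mem_normalizer_iff.1 hx ⟨a, hlt.le ha⟩).1 (mem_subgroupOf.2 ha))

end Cfsg.Lib.Local.QuadTorus
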