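import Cfsg.Agent.Lib.Local.QuadTorus.Frame
import Cfsg.Agent.Lib.PGroup.Basic

/-!
# Reaching a frame from a failure of control

`Ctrl`: in every proper subgroup the maps within a Sylow subgroup containing `J(S)` are induced by `N(Z(J(S)))`.
-/

set_option autoImplicit false
set_option linter.style.haveILetI false

namespace Cfsg.Lib.Local.QuadTorus

open Subgroup Cfsg
open Cfsg.Lib.Local.GlaubermanZJ

universe u

variable {p : ℕ} {G : Type u} [Group G]

/-- See the module docstring. -/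
def Ctrl (p : ℕ) (S : Subgroup G) : Prop :=
  ∀ K T : Subgroup G, K ≠ ⊤ → T ≤ K → IsPGroup p T → ¬ p ∣ T.relIndex K → thompsonSubgroupAOf S ≤ T →
    ∀ A ≤ T, ∀ k ∈ K, (∀ a ∈ A, k * a * k⁻¹ ∈ T) → Induced (normalizer (centerThompsonAOf S : Set G)) A k

/-- `A` shows that control fails. -/
def Fail (S A : Subgroup G) : Prop :=
  A ≤ S ∧ ∃ g, (∀ a ∈ A, g * a * g⁻¹ ∈ S) ∧ ¬ Induced (normalizer (centerThompsonAOf S : Set G)) A g

/-- The preimage of `J(P / D)`. -/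
def WJ (D P : Subgroup G) [D.Normal] : Subgroup G :=
  (thompsonSubgroupAOf (P.map (QuotientGroup.mk' D))).comap (QuotientGroup.mk' D)

theorem Induced.mono {H A B : Subgroup G} {g : G} (h : Induced H B g) (hAB : A ≤ B) : Induced H A g :=
  let ⟨x, hx, he⟩ := h
  ⟨x, hx, fun a ha => he a (hAB ha)⟩

variable [Finite G] [hp : Fact p.Prime]

/-- Sylow's theorem inside a subgroup. -/
theorem exists_conj_le_in {K T R : Subgroup G} (hTK : T ≤ K) (hT : IsPGroup p T)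
    (hidx : ¬ p ∣ T.relIndex K) (hRK : R ≤ K) (hR : IsPGroup p R) :
    ∃ c ∈ K, ∀ r ∈ R, c * r * c⁻¹ ∈ T := by
  let ST : Sylow p K := (hT.of_equiv (subgroupOfEquivOfLe hTK).symm).toSylow hidx
  obtain ⟨S', hS'⟩ := (hR.of_equiv (subgroupOfEquivOfLe hRK).symm).exists_le_sylow
  obtain ⟨c, hc⟩ := MulAction.exists_smul_eq K S' ST
  refine ⟨c, c.2, fun r hr => ?_⟩
  have h1 : c * ⟨r, hRK hr⟩ * c⁻¹ ∈ (ST : Subgroup K) := by
    rw [← hc]; exact ⟨_, hS' (hr : (⟨r, hRK hr⟩ : K) ∈ R.subgroupOf K), rfl⟩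
  exact mem_subgroupOf.1 h1

omit hp in
theorem exists_conj_le_sylow' [Fact p.Prime] (S : Sylow p G) {R : Subgroup G} (hR : IsPGroup p R) :
    ∃ x : G, ∀ r ∈ R, x * r * x⁻¹ ∈ (S : Subgroup G) := by
  obtain ⟨T, hT⟩ := hR.exists_le_sylow
  obtain ⟨x, rfl⟩ := MulAction.exists_smul_eq G T S
  exact ⟨x, fun r hr => ⟨r, hT hr, rfl⟩⟩

omit hp in
theorem normalizer_le_normalizer_WJ (D P : Subgroup G) [D.Normal] :
    normalizer (P : Set G) ≤ normalizer (WJ D P : Set G) := fun g hg => by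
  set q := QuotientGroup.mk' D with hq
  have hgn : q g ∈ normalizer (P.map q : Set (G ⧸ D)) := le_normalizer_map q (mem_map_of_mem q hg)
  refine mem_normalizer_fintype fun x hx => ?_
  rw [WJ, SetLike.mem_coe, mem_comap] at hx ⊢
  rw [map_mul, map_mul, map_inv]
  exact (mem_normalizer_iff.1 (normalizer_le_normalizer_thompson _ hgn) _).1 hx

omit hp in
theorem map_WJ (D P : Subgroup G) [D.Normal] (x : G) :
    (WJ D P).map (MulAut.conj x).toMonoidHom = WJ D (P.map (MulAut.conj x).toMonoidHom) := by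
  set q := QuotientGroup.mk' D with hq
  have h1 : (P.map (MulAut.conj x).toMonoidHom).map q = (P.map q).map (MulAut.conj (q x)).toMonoidHom := by
    rw [Subgroup.map_map, Subgroup.map_map]
    congr 1
  have h2 := map_thompsonSubgroupAOf (MulAut.conj (q x)) (P.map q)
  ext y
  constructor
  · rintro ⟨z, hz, rfl⟩
    rw [WJ, mem_comap, h1, ← h2]
    exact ⟨q z, hz, by simp [q]⟩
  · intro hy
    rw [WJ, mem_comap, h1, ← h2] at hy
    obtain ⟨w, hw, hwe⟩ := hy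
    refine ⟨x⁻¹ * y * x, ?_, by simp [mul_assoc]⟩
    rw [WJ, SetLike.mem_coe, mem_comap]
    show q (x⁻¹ * y * x) ∈ _
    rw [map_mul, map_mul, map_inv, show q y = q x * w * (q x)⁻¹ from hwe.symm]
    simpa [mul_assoc] using hw

variable (S : Sylow p G)

local notation "SS" => (S : Subgroup G)
local notation "YY" => centerThompsonAOf (S : Subgroup G)
local notation "HH" => normalizer ((centerThompsonAOf (S : Subgroup G) : Subgroup G) : Set G)

omit hp in
theorem sylow_le_H : SS ≤ HH := le_normalizer.trans (normalizer_le_normalizer_centerThompsonAOf _)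

/-- Elements of order prime to `p` centralize the core of `Z(J(S))`. -/
theorem fix_core (hC : Ctrl p SS) {A : Subgroup G} (hA : Fail SS A) {x : G}
    (hx : (orderOf x).Coprime p) {d : G} (hd : d ∈ (YY).normalCore) : x * d * x⁻¹ = d := by
  obtain ⟨hAS, g, hgA, hng⟩ := hA
  set D := (YY).normalCore with hD
  set Cd := centralizer (D : Set G) with hCd
  haveI : Cd.Normal := inferInstance
  set C₁ := SS ⊓ Cd with hC₁
  have hJC : thompsonSubgroupAOf SS ≤ C₁ := le_inf thompson_le fun a ha =>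
    mem_centralizer_iff.2 fun y hy => (mem_centralizer_iff.1 (normalCore_le _ hy).2 a ha).symm
  have hC₁N : normalizer (C₁ : Set G) ≤ HH := fun n hn => by
    refine mem_normalizer_center ?_
    rw [← thompson_eq_of_between hJC inf_le_left]
    exact normalizer_le_normalizer_thompson _ hn
  have hidx : ¬ p ∣ C₁.relIndex Cd := by
    rw [inf_relIndex_right]
    exact Cfsg.Lib.Solv.not_dvd_relIndex_of_isSubnormal S (Subgroup.Normal.isSubnormal inferInstance)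
  obtain ⟨c, hc, hcn⟩ := frattini_elem' (S.isPGroup'.to_le inf_le_left) (inf_le_right : C₁ ≤ Cd) hidx
    (show g ∈ normalizer (Cd : Set G) by rw [normalizer_eq_top]; exact mem_top g)
  set n := c * g with hn
  set K := Cd ⊔ SS with hK
  have hKtop : K = ⊤ := by
    by_contra hne
    have hSK : SS ≤ K := le_sup_right
    have hSN : SS ≤ normalizer (C₁ : Set G) := fun s hs => mem_normalizer_fintype fun y hy =>
      ⟨(SS).mul_mem ((SS).mul_mem hs hy.1) ((SS).inv_mem hs), (inferInstance : Cd.Normal).conj_mem y hy.2 s⟩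
    have hidxS : ∀ X : Subgroup G, SS ≤ X → ¬ p ∣ (SS).relIndex X := fun X hX hd =>
      S.not_dvd_index (hd.trans (relIndex_dvd_index_of_le hX))
    have hnA : A.map (MulAut.conj n).toMonoidHom ≤ K ⊓ normalizer (C₁ : Set G) := by
      rintro _ ⟨a, ha, rfl⟩
      refine ⟨?_, (normalizer (C₁ : Set G)).mul_mem ((normalizer (C₁ : Set G)).mul_mem hcn (hSN (hAS ha)))
        ((normalizer (C₁ : Set G)).inv_mem hcn)⟩
      show c * g * a * (c * g)⁻¹ ∈ K
      rw [show c * g * a * (c * g)⁻¹ = c * (g * a * g⁻¹) * c⁻¹ by group]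
      exact mul_mem (mul_mem (mem_sup_left hc) (mem_sup_right (hgA a ha))) (K.inv_mem (mem_sup_left hc))
    obtain ⟨m, hm, hmS⟩ := exists_conj_le_in (le_inf hSK hSN) S.isPGroup' (hidxS _ (le_inf hSK hSN)) hnA
      ((S.isPGroup'.to_le hAS).map _)
    have hk : c⁻¹ * m⁻¹ ∈ K := mul_mem (K.inv_mem (mem_sup_left hc)) (K.inv_mem hm.1)
    have hA₂ : A.map (MulAut.conj (m * n)).toMonoidHom ≤ SS := by
      rintro _ ⟨a, ha, rfl⟩
      simpa [mul_assoc] using hmS _ ⟨a, ha, rfl⟩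
    obtain ⟨h, hh, hhe⟩ := hC K SS hne hSK S.isPGroup' (hidxS K hSK) thompson_le _ hA₂ _ hk (by
      rintro _ ⟨a, ha, rfl⟩
      convert hgA a ha using 1
      simp [hn, mul_assoc])
    refine hng ⟨h * (m * n), mul_mem hh (hC₁N (mul_mem hm.2 hcn)), fun a ha => ?_⟩
    have h1 := hhe _ ⟨a, ha, rfl⟩
    simp [hn, mul_assoc] at h1 ⊢
    exact h1
  obtain ⟨y, hy, s, hs, rfl⟩ := mem_sup_of_normal_left.1 (hKtop.ge (mem_top x))
  obtain ⟨i, hi⟩ := S.isPGroup' ⟨s, hs⟩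
  set q := QuotientGroup.mk' Cd with hq
  have hq1 : q (y * s) = 1 := by
    rw [← orderOf_eq_one_iff]
    refine Nat.eq_one_of_dvd_coprimes (hx.pow_right i) (orderOf_map_dvd q _) (orderOf_dvd_of_pow_eq_one ?_)
    rw [map_mul, show q y = 1 from (QuotientGroup.eq_one_iff y).2 hy, one_mul, ← map_pow,
      show s ^ p ^ i = 1 from congrArg Subtype.val hi, map_one]
  rw [← mem_centralizer_iff.1 ((QuotientGroup.eq_one_iff _).1 hq1) d hd, mul_inv_cancel_right]

/-- Every failing subgroup of largest order contains the core and the chosen element. -/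
theorem fail_contains (hC : Ctrl p SS) {A₀ : Subgroup G} (hA₀ : Fail SS A₀) (h0 : Nat.card A₀ < Nat.card SS)
    (hlarge : ∀ A ≤ SS, Nat.card A₀ < Nat.card A → ∀ g, (∀ a ∈ A, g * a * g⁻¹ ∈ SS) → Induced HH A g)
    {t : G} (htS : t ∈ SS) (htc : ∀ s ∈ SS, s * t * s⁻¹ * t⁻¹ ∈ (YY).normalCore)
    {A : Subgroup G} (hA : Fail SS A) (hcard : Nat.card A = Nat.card A₀) :
    (YY).normalCore ≤ A ∧ t ∈ A := by
  classical
  set D := (YY).normalCore with hD
  have hDS : D ≤ SS := (normalCore_le _).trans (centerThompsonAOf_le _)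
  obtain ⟨hAS, g₀, hg₀, hng₀⟩ := hA
  obtain ⟨R, ⟨⟨xR, hxR⟩, hRS⟩, hmax⟩ := Set.exists_max_image
    {R : Subgroup G | (∃ x : G, A.map (MulAut.conj x).toMonoidHom = R) ∧ R ≤ SS}
    (fun R => Nat.card (SS ⊓ normalizer (R : Set G) : Subgroup G)) (Set.toFinite _)
    ⟨A, ⟨1, by ext y; simp⟩, hAS⟩
  have hRc : Nat.card R = Nat.card A₀ := by
    rw [← hxR, card_map_of_injective (MulAut.conj xR).injective, hcard]
  set X := normalizer (R : Set G) with hX
  set N₀ := SS ⊓ X with hN₀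
  have hN₀idx : ¬ p ∣ N₀.relIndex X := by
    obtain ⟨Q, hNQ, hQX, hQp, hQidx⟩ := exists_sylow_of_le (S.isPGroup'.to_le (inf_le_left : N₀ ≤ SS))
      (inf_le_right : N₀ ≤ X)
    obtain ⟨y, hy⟩ := exists_conj_le_sylow' S hQp
    set R' := R.map (MulAut.conj y).toMonoidHom with hR'
    have hR'S : R' ≤ SS := by
      rintro _ ⟨r, hr, rfl⟩
      exact hy r (hNQ ⟨hRS hr, le_normalizer hr⟩)
    have hle : Q.map (MulAut.conj y).toMonoidHom ≤ SS ⊓ normalizer (R' : Set G) := by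
      rintro _ ⟨a, ha, rfl⟩
      refine ⟨hy a ha, mem_normalizer_fintype ?_⟩
      rintro _ ⟨r, hr, rfl⟩
      exact ⟨a * r * a⁻¹, (mem_normalizer_iff.1 (hQX ha) r).1 hr, by simp [mul_assoc]⟩
    have hle' := (card_le_of_le hle).trans (hmax R' ⟨⟨y * xR, by
      rw [hR', ← hxR, Subgroup.map_map]; congr 1; ext z; simp [mul_assoc]⟩, hR'S⟩)
    rw [card_map_of_injective (MulAut.conj y).injective] at hle'
    rw [show N₀ = Q from eq_of_le_of_card_ge hNQ hle']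
    exact hQidx
  -- moving a conjugate to `R`
  have hmove : ∀ A₁ : Subgroup G, A₁ ≤ SS → (∃ x : G, A₁.map (MulAut.conj x).toMonoidHom = R) →
      ∃ x : G, A₁.map (MulAut.conj x).toMonoidHom = R ∧
        (∀ a ∈ SS ⊓ normalizer (A₁ : Set G), x * a * x⁻¹ ∈ N₀) ∧
        Induced HH (SS ⊓ normalizer (A₁ : Set G)) x := by
    rintro A₁ hA₁ ⟨x₀, hx₀⟩
    set N₁ := SS ⊓ normalizer (A₁ : Set G) with hN₁
    have hsub : N₁.map (MulAut.conj x₀).toMonoidHom ≤ X := by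
      rintro _ ⟨a, ha, rfl⟩
      refine mem_normalizer_fintype fun r hr => ?_
      obtain ⟨b, hb, rfl⟩ := hx₀.ge hr
      exact hx₀.le ⟨a * b * a⁻¹, (mem_normalizer_iff.1 ha.2 b).1 hb, by simp [mul_assoc]⟩
    obtain ⟨c, hc, hcN⟩ := exists_conj_le_in (inf_le_right : N₀ ≤ X) (S.isPGroup'.to_le inf_le_left)
      hN₀idx hsub ((S.isPGroup'.to_le inf_le_left).map _)
    refine ⟨c * x₀, ?_, fun a ha => ?_, ?_⟩
    · refine eq_of_le_of_card_ge ?_ (le_of_eq ?_)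
      · rintro _ ⟨a, ha, rfl⟩
        have h1 := (mem_normalizer_iff.1 hc _).1 (hx₀.le ⟨a, ha, rfl⟩)
        simpa [mul_assoc] using h1
      · rw [← hx₀, card_map_of_injective (MulAut.conj x₀).injective,
          card_map_of_injective (MulAut.conj (c * x₀)).injective]
    · simpa [mul_assoc, hN₀, Subgroup.mem_inf] using hcN _ ⟨a, ha, rfl⟩
    · have hA₁c : Nat.card A₁ = Nat.card A₀ := by
        rw [← hRc, ← hx₀, card_map_of_injective (MulAut.conj x₀).injective]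
      refine hlarge N₁ inf_le_left ?_ _ fun a ha => ?_
      · rw [← hA₁c]
        refine Set.Finite.card_lt_card (Set.toFinite _) (lt_inf_normalizer' S.isPGroup' (lt_of_le_of_ne hA₁ ?_))
        intro he
        rw [he] at hA₁c
        omega
      · simpa [mul_assoc] using (show _ ∈ SS from (hcN _ ⟨a, ha, rfl⟩).1)
  obtain ⟨xA, hxA, hxAN, hxAi⟩ := hmove A hAS ⟨xR, hxR⟩
  -- an automorphism of `R` that is not induced
  obtain ⟨g, hgX, hng⟩ : ∃ g ∈ X, ¬ Induced HH R g := by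
    set A₂ := A.map (MulAut.conj g₀).toMonoidHom with hA₂
    obtain ⟨x₂, hx₂, -, hx₂i⟩ := hmove A₂ (by rintro _ ⟨a, ha, rfl⟩; exact hg₀ a ha)
      ⟨xA * g₀⁻¹, by rw [hA₂, Subgroup.map_map, ← hxA]; congr 1; ext z; simp [mul_assoc]⟩
    refine ⟨x₂ * g₀ * xA⁻¹, mem_normalizer_fintype fun r hr => ?_, ?_⟩
    · obtain ⟨a, ha, rfl⟩ := hxA.ge hr
      exact hx₂.le ⟨g₀ * a * g₀⁻¹, ⟨a, ha, rfl⟩, by simp [mul_assoc]⟩
    · rintro ⟨h, hh, hhe⟩
      obtain ⟨h₁, hh₁, hh₁e⟩ := hxAi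
      obtain ⟨h₂, hh₂, hh₂e⟩ := hx₂i
      refine hng₀ ⟨h₂⁻¹ * h * h₁, mul_mem (mul_mem (inv_mem hh₂) hh) hh₁, fun a ha => ?_⟩
      have e1 := hh₁e a ⟨hAS ha, le_normalizer ha⟩
      have e2 := hhe _ (hxA.le ⟨a, ha, rfl⟩)
      have e3 := hh₂e _ ⟨hg₀ a ha, le_normalizer (⟨a, ha, rfl⟩ : g₀ * a * g₀⁻¹ ∈ A₂)⟩
      simp only [MulEquiv.coe_toMonoidHom, MulAut.conj_apply] at e2
      rw [show h₂⁻¹ * h * h₁ * a * (h₂⁻¹ * h * h₁)⁻¹ = h₂⁻¹ * (h * (h₁ * a * h₁⁻¹) * h⁻¹) * h₂ by group, e1, e2,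
        show x₂ * g₀ * xA⁻¹ * (xA * a * xA⁻¹) * (x₂ * g₀ * xA⁻¹)⁻¹ = x₂ * (g₀ * a * g₀⁻¹) * x₂⁻¹ by group, ← e3]
      group
  -- the stabilizer of the series through `D`
  let W : Subgroup G :=
    { carrier := {x | x ∈ X ∧ ∀ r ∈ R, x * r * x⁻¹ * r⁻¹ ∈ D}
      one_mem' := ⟨X.one_mem, fun r _ => by simp⟩
      mul_mem' := fun {x y} hx hy => ⟨mul_mem hx.1 hy.1, fun r hr => by
        rw [show x * y * r * (x * y)⁻¹ * r⁻¹ = x * (y * r * y⁻¹ * r⁻¹) * x⁻¹ * (x * r * x⁻¹ * r⁻¹) by group]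
        exact mul_mem ((normalCore_normal _).conj_mem _ (hy.2 r hr) x) (hx.2 r hr)⟩
      inv_mem' := fun {x} hx => ⟨inv_mem hx.1, fun r hr => by
        have h := (normalCore_normal _).conj_mem _ (inv_mem (hx.2 r hr)) x⁻¹
        rw [show x⁻¹ * (x * r * x⁻¹ * r⁻¹)⁻¹ * x⁻¹⁻¹ = x⁻¹ * r * x⁻¹⁻¹ * r⁻¹ by group] at h
        exact h⟩ }
  have hWX : W ≤ X := fun x hx => hx.1
  have hcopr : ∀ x ∈ W, (orderOf x).Coprime p → ∀ r ∈ R, x * r * x⁻¹ = r := by
    intro x hx hxo r hr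
    set d := x * r * x⁻¹ * r⁻¹ with hd
    have hdD : d ∈ D := hx.2 r hr
    have hfix : x * d * x⁻¹ = d := fix_core S hC hA₀ hxo hdD
    have hpow : ∀ i : ℕ, x ^ i * r * (x ^ i)⁻¹ = d ^ i * r := by
      intro i
      induction i with
      | zero => simp
      | succ i ih =>
        rw [pow_succ' x, show x * x ^ i * r * (x * x ^ i)⁻¹ = x * (x ^ i * r * (x ^ i)⁻¹) * x⁻¹ by group, ih,
          show x * (d ^ i * r) * x⁻¹ = (x * d ^ i * x⁻¹) * (x * r * x⁻¹) by group, ← conj_pow, hfix,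
          show x * r * x⁻¹ = d * r by rw [hd, inv_mul_cancel_right], ← mul_assoc, ← pow_succ]
    have h1 := hpow (orderOf x)
    rw [pow_orderOf_eq_one] at h1
    have h3 : d ^ orderOf x = 1 := by simpa using h1.symm
    obtain ⟨i, hi⟩ := S.isPGroup' ⟨d, hDS hdD⟩
    have h4 : orderOf d = 1 := Nat.eq_one_of_dvd_coprimes (hxo.pow_right i)
      (orderOf_dvd_of_pow_eq_one h3) (orderOf_dvd_of_pow_eq_one (congrArg Subtype.val hi))
    rw [orderOf_eq_one_iff, hd, mul_inv_eq_one] at h4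
    exact h4
  -- Frattini
  let J : Subgroup G :=
    { carrier := {x | x ∈ X ∧ Induced HH R x}
      one_mem' := ⟨X.one_mem, 1, one_mem _, fun r _ => rfl⟩
      mul_mem' := fun {x y} hx hy => ⟨mul_mem hx.1 hy.1, by
        obtain ⟨h, hh, he⟩ := hx.2
        obtain ⟨k, hk, hke⟩ := hy.2
        refine ⟨h * k, mul_mem hh hk, fun r hr => ?_⟩
        rw [show h * k * r * (h * k)⁻¹ = h * (k * r * k⁻¹) * h⁻¹ by group, hke r hr,
          he _ ((mem_normalizer_iff.1 hy.1 r).1 hr)]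
        group⟩
      inv_mem' := fun {x} hx => ⟨inv_mem hx.1, by
        obtain ⟨h, hh, he⟩ := hx.2
        refine ⟨h⁻¹, inv_mem hh, fun r hr => ?_⟩
        have h1 := he _ ((mem_normalizer_iff.1 (inv_mem hx.1) r).1 hr)
        rw [show x * (x⁻¹ * r * x⁻¹⁻¹) * x⁻¹ = r by group] at h1
        calc h⁻¹ * r * h⁻¹⁻¹ = h⁻¹ * (h * (x⁻¹ * r * x⁻¹⁻¹) * h⁻¹) * h⁻¹⁻¹ := by rw [h1]
          _ = _ := by group⟩ }
  set RW := N₀ ⊓ W with hRW
  have hWn : ∀ z ∈ X, ∀ x ∈ W, z * x * z⁻¹ ∈ W := fun z hz x hx =>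
    ⟨mul_mem (mul_mem hz hx.1) (inv_mem hz), fun r hr => by
      have h := (normalCore_normal _).conj_mem _
        (hx.2 _ ((mem_normalizer_iff.1 (inv_mem hz) r).1 hr)) z
      rw [show z * (x * (z⁻¹ * r * z⁻¹⁻¹) * x⁻¹ * (z⁻¹ * r * z⁻¹⁻¹)⁻¹) * z⁻¹ =
        z * x * z⁻¹ * r * (z * x * z⁻¹)⁻¹ * r⁻¹ by group] at h
      exact h⟩
  have hsylow : ∀ K : Subgroup G, K ≤ X → (∀ z ∈ X, ∀ x ∈ K, z * x * z⁻¹ ∈ K) →
      ¬ p ∣ (N₀ ⊓ K).relIndex K := by
    intro K hKX hKn hd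
    rw [inf_relIndex_right] at hd
    let SX : Sylow p X := ((S.isPGroup'.to_le (inf_le_left : N₀ ≤ SS)).of_equiv
      (subgroupOfEquivOfLe (inf_le_right : N₀ ≤ X)).symm).toSylow hN₀idx
    haveI : (K.subgroupOf X).Normal :=
      ⟨fun y hy z => mem_subgroupOf.2 (hKn z z.2 _ (mem_subgroupOf.1 hy))⟩
    refine Cfsg.Lib.Solv.not_dvd_relIndex_of_isSubnormal SX
      (Subgroup.Normal.isSubnormal (inferInstance : (K.subgroupOf X).Normal)) ?_
    show p ∣ (N₀.subgroupOf X).relIndex (K.subgroupOf X)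
    rw [relIndex_subgroupOf hKX]
    exact hd
  have hSJ : N₀ ≤ J := fun s hs => ⟨hs.2, s, sylow_le_H S hs.1, fun r _ => rfl⟩
  have hWJ : W ≤ J := le_of_coprime_elements (p := p) (inf_le_right : RW ≤ W) (hsylow W hWX hWn)
    (inf_le_left.trans hSJ) fun x hx hxo => ⟨hx.1, 1, one_mem _, fun r hr => by rw [hcopr x hx hxo r hr]; simp⟩
  set K := W ⊔ R with hK
  have hKX : K ≤ X := sup_le hWX le_normalizer
  have hKn : ∀ z ∈ X, ∀ x ∈ K, z * x * z⁻¹ ∈ K := fun z hz x hx => by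
    have h : K.map (MulAut.conj z).toMonoidHom ≤ K := by
      rw [hK, Subgroup.map_sup]
      refine sup_le_sup ?_ ?_
      · rintro _ ⟨y, hy, rfl⟩; exact hWn z hz y hy
      · rintro _ ⟨y, hy, rfl⟩; exact (mem_normalizer_iff.1 hz y).1 hy
    exact h ⟨x, hx, rfl⟩
  have hKJ : K ≤ J := sup_le hWJ fun r hr => hSJ ⟨hRS hr, le_normalizer hr⟩
  set RS := N₀ ⊓ K with hRSdef
  obtain ⟨k, hk, hkg⟩ := frattini_elem' (S.isPGroup'.to_le (inf_le_left.trans inf_le_left : RS ≤ SS))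
    (inf_le_right : RS ≤ K) (hsylow K hKX hKn)
    (mem_normalizer_fintype fun x hx => hKn g hgX x hx)
  have hRRS : R ≤ RS := le_inf (le_inf hRS le_normalizer) le_sup_right
  have hRSR : RS = R := by
    by_contra hne
    refine hng ?_
    have hlt : Nat.card A₀ < Nat.card RS := by
      rw [← hRc]
      exact Set.Finite.card_lt_card (Set.toFinite _) (show R < RS from lt_of_le_of_ne hRRS (Ne.symm hne))
    have hi := hlarge RS (inf_le_left.trans inf_le_left) hlt (k * g)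
      (fun a ha => ((mem_normalizer_iff.1 hkg a).1 ha).1.1)
    have h1 : k * g ∈ J := ⟨mul_mem (hKX hk) hgX, hi.mono hRRS⟩
    have h2 : g ∈ J := by simpa using mul_mem (inv_mem (hKJ hk)) h1
    exact h2.2
  have hWR : ∀ x ∈ W, x ∈ SS → x ∈ R := fun x hx hxS =>
    hRSR.le ⟨⟨hxS, hx.1⟩, mem_sup_left hx⟩
  have hDR : D ≤ R := by
    by_contra hne
    have hlt : R < D ⊔ R := lt_of_le_not_ge le_sup_right fun h => hne (le_sup_left.trans h)
    obtain ⟨y, ⟨hy, hyN⟩, hyR⟩ := SetLike.exists_of_lt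
      (lt_inf_normalizer' (S.isPGroup'.to_le (sup_le hDS hRS)) hlt)
    obtain ⟨d, hd, r, hr, rfl⟩ := mem_sup_of_normal_left.1 hy
    have hdN : d ∈ X := by simpa using mul_mem hyN (X.inv_mem (le_normalizer hr))
    refine hyR (mul_mem (hWR d ⟨hdN, fun r' hr' => ?_⟩ (hDS hd)) hr)
    rw [show d * r' * d⁻¹ * r'⁻¹ = d * (r' * d⁻¹ * r'⁻¹) by group]
    exact mul_mem hd ((normalCore_normal _).conj_mem _ (inv_mem hd) r')
  have hDA : D ≤ A := fun d hd => by
    obtain ⟨a, ha, hae⟩ := hxA.ge (hDR ((normalCore_normal _).conj_mem d hd xA))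
    have : a = d := by simpa using hae
    exact this ▸ ha
  have htA : t ∈ SS ⊓ normalizer (A : Set G) := ⟨htS, mem_normalizer_fintype fun a ha => by
    have h1 : t * a * t⁻¹ * a⁻¹ ∈ A := hDA (by
      have := inv_mem (htc a (hAS ha))
      rwa [show (a * t * a⁻¹ * t⁻¹)⁻¹ = t * a * t⁻¹ * a⁻¹ by group] at this)
    simpa using mul_mem h1 ha⟩
  refine ⟨hDA, ?_⟩
  have hgt := hxAN t htA
  have hin : xA * t * xA⁻¹ ∈ R := hWR _ ⟨hgt.2, fun r hr => by
    obtain ⟨a, ha, rfl⟩ := hxA.ge hr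
    have h1 : t * a * t⁻¹ * a⁻¹ ∈ D := by
      have := inv_mem (htc a (hAS ha))
      rwa [show (a * t * a⁻¹ * t⁻¹)⁻¹ = t * a * t⁻¹ * a⁻¹ by group] at this
    have h2 := (normalCore_normal _).conj_mem _ h1 xA
    simpa [mul_assoc] using h2⟩ hgt.1
  obtain ⟨a, ha, hae⟩ := hxA.ge hin
  have : a = t := by simpa using hae
  exact this ▸ ha

end Cfsg.Lib.Local.QuadTorus
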