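import Mathlib

/-!
# A torus acting on a natural section

`IsTorusDatum l E R n`: inside the subgroup `R` a section of order `p²` is a natural module for the unipotent
images of `R` and the torus element `n`, and `y ↦ n y n⁻¹ y⁻ᵏ` is not onto on `E`, `k` a generator mod `p`.
-/

set_option autoImplicit false

namespace Cfsg.Lib.Local.QuadTorus

open Subgroup

universe u v

variable {p : ℕ} {G : Type u} [Group G]

/-- See the module docstring. -/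
def IsTorusDatum (l : ZMod p) (E R : Subgroup G) (n : G) : Prop :=
  E ≤ R ∧ (∀ x ∈ R, n * x * n⁻¹ ∈ R) ∧ (∀ x ∈ E, n * x * n⁻¹ ∈ E) ∧
    (∃ (k : ℕ), orderOf (k : ZMod p) = p - 1 ∧ ∃ y ∈ E, ∀ x ∈ E, n * x * n⁻¹ * (x ^ k)⁻¹ ≠ y) ∧
    ∃ (V : Subgroup G) (ι : G → (Fin 2 → ZMod p)) (j : G → ZMod p),
      V ≤ R ∧ (∀ x ∈ V, ∀ y ∈ V, ι (x * y) = ι x + ι y) ∧ (∀ c, ∃ v ∈ V, ι v = c) ∧
      (∀ r ∈ R, ∀ v ∈ V, r * v * r⁻¹ ∈ V ∧ ι (r * v * r⁻¹) = ![ι v 0 + j r * ι v 1, ι v 1]) ∧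
      (∀ v ∈ V, n * v * n⁻¹ ∈ V ∧ ι (n * v * n⁻¹) = ![l * ι v 0, l⁻¹ * ι v 1]) ∧
      ∃ r ∈ R, j r = 1

/-- An element with the same action on `R` does as well. -/
theorem IsTorusDatum.congr {l : ZMod p} {E R : Subgroup G} {n h : G} (d : IsTorusDatum l E R n)
    (he : ∀ x ∈ R, h * x * h⁻¹ = n * x * n⁻¹) : IsTorusDatum l E R h := by
  obtain ⟨hER, hnR, hnE, ⟨k, hk, y, hy, hne⟩, V, ι, j, hV, hadd, hsurj, hR, hn, hr⟩ := d
  refine ⟨hER, fun x hx => (he x hx).symm ▸ hnR x hx, fun x hx => (he x (hER hx)).symm ▸ hnE x hx,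
    ⟨k, hk, y, hy, fun x hx => ?_⟩, V, ι, j, hV, hadd, hsurj, hR, fun v hv => ?_, hr⟩
  · rw [he x (hER hx)]; exact hne x hx
  · rw [he v (hV hv)]; exact hn v hv

/-- Pulling back along a surjection. -/
theorem IsTorusDatum.comap {Q : Type v} [Group Q] (f : G →* Q) (hf : Function.Surjective f)
    {l : ZMod p} {E R : Subgroup Q} {n : G} (d : IsTorusDatum l E R (f n)) :
    IsTorusDatum l (E.comap f) (R.comap f) n := by
  obtain ⟨hER, hnR, hnE, ⟨k, hk, y, hy, hne⟩, V, ι, j, hV, hadd, hsurj, hR, hn, r, hr, hjr⟩ := d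
  obtain ⟨y, rfl⟩ := hf y
  obtain ⟨r, rfl⟩ := hf r
  refine ⟨comap_mono hER, fun x hx => by simpa using hnR (f x) hx, fun x hx => by simpa using hnE (f x) hx,
    ⟨k, hk, y, hy, fun x hx h => hne (f x) hx (by simpa using congrArg f h)⟩,
    V.comap f, ι ∘ f, j ∘ f, comap_mono hV, fun x hx y hy => by simpa using hadd (f x) hx (f y) hy,
    fun c => ?_, fun r hr v hv => by simpa using hR (f r) hr (f v) hv,
    fun v hv => by simpa using hn (f v) hv, r, hr, hjr⟩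
  obtain ⟨v, hv, rfl⟩ := hsurj c
  obtain ⟨v, rfl⟩ := hf v
  exact ⟨v, hv, rfl⟩

/-- From a subgroup to the whole group. -/
theorem IsTorusDatum.map_subtype {M : Subgroup G} {l : ZMod p} {E R : Subgroup M} {n : M}
    (d : IsTorusDatum l E R n) : IsTorusDatum l (E.map M.subtype) (R.map M.subtype) (n : G) := by
  classical
  obtain ⟨hER, hnR, hnE, ⟨k, hk, y, hy, hne⟩, V, ι, j, hV, hadd, hsurj, hR, hn, r, hr, hjr⟩ := d
  let ι' : G → (Fin 2 → ZMod p) := fun x => if hx : x ∈ M then ι ⟨x, hx⟩ else 0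
  let j' : G → ZMod p := fun x => if hx : x ∈ M then j ⟨x, hx⟩ else 0
  have hι : ∀ x : M, ι' (x : G) = ι x := fun x => by simp [ι', x.2]
  have hj : ∀ x : M, j' (x : G) = j x := fun x => by simp [j', x.2]
  refine ⟨map_mono hER, ?_, ?_, ⟨k, hk, y, ⟨y, hy, rfl⟩, ?_⟩, V.map M.subtype, ι', j', map_mono hV,
    ?_, ?_, ?_, ?_, r, ⟨r, hr, rfl⟩, (hj r).trans hjr⟩
  · rintro _ ⟨x, hx, rfl⟩
    exact ⟨_, hnR x hx, by simp⟩
  · rintro _ ⟨x, hx, rfl⟩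
    exact ⟨_, hnE x hx, by simp⟩
  · rintro _ ⟨x, hx, rfl⟩ h
    exact hne x hx (Subtype.ext (by simpa using h))
  · rintro _ ⟨x, hx, rfl⟩ _ ⟨z, hz, rfl⟩
    rw [coe_subtype, ← Subgroup.coe_mul, hι, hι, hι]
    exact hadd x hx z hz
  · intro c
    obtain ⟨v, hv, rfl⟩ := hsurj c
    exact ⟨_, ⟨v, hv, rfl⟩, hι v⟩
  · rintro _ ⟨r, hr, rfl⟩ _ ⟨v, hv, rfl⟩
    rw [coe_subtype, ← Subgroup.coe_inv, ← Subgroup.coe_mul, ← Subgroup.coe_mul, hι, hι, hj]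
    exact ⟨⟨_, (hR r hr v hv).1, rfl⟩, (hR r hr v hv).2⟩
  · rintro _ ⟨v, hv, rfl⟩
    rw [coe_subtype, ← Subgroup.coe_inv, ← Subgroup.coe_mul, ← Subgroup.coe_mul, hι, hι]
    exact ⟨⟨_, (hn v hv).1, rfl⟩, (hn v hv).2⟩

end Cfsg.Lib.Local.QuadTorus
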