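import Cfsg.Agent.Lib.Local.QuadTorus.Datum
import Cfsg.Agent.Lib.Local.QdGroup
import Cfsg.Agent.Lib.FusionSys.NormalizerModel
import Cfsg.Prelude.Def_LocalEven

/-!
# From a torus datum to `F(p)` and a full automizer
-/

set_option autoImplicit false
set_option linter.style.haveILetI false

namespace Cfsg.Lib.Local.QuadTorus

open Subgroup Cfsg Matrix
open scoped MatrixGroups

universe u

variable {p : ℕ} [hpf : Fact p.Prime] {G : Type u} [Group G] [Finite G]

theorem coe_mul_eq (A B : SL(2, ZMod p)) : ((A * B : SL(2, ZMod p)) : Matrix (Fin 2) (Fin 2) (ZMod p)) =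
    (A : Matrix (Fin 2) (Fin 2) (ZMod p)) * (B : Matrix (Fin 2) (Fin 2) (ZMod p)) := rfl

theorem ne_zero_of_orderOf {l : ZMod p} (hl : orderOf l = p - 1) : l ≠ 0 := by
  rintro rfl
  have h2 := hpf.out.two_le
  rw [orderOf_zero] at hl
  omega

/-- The generators of a cyclic group of order `p` are permuted transitively. -/
theorem relIndex_eq_of_eigen (H : Subgroup G) {h c : G} (hh : h ∈ H) (hc : orderOf c = p) {k : ℕ}
    (hk : orderOf (k : ZMod p) = p - 1) (he : h * c * h⁻¹ = c ^ k) :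
    (H ⊓ centralizer (zpowers c : Set G)).relIndex (H ⊓ normalizer (zpowers c : Set G)) = p - 1 := by
  classical
  set C := zpowers c with hC
  have hcard : Nat.card C = p := by rw [Nat.card_zpowers, hc]
  have hhN : h ∈ normalizer (C : Set G) := by
    refine mem_normalizer_fintype fun x hx => ?_
    obtain ⟨i, rfl⟩ := mem_zpowers_iff.1 hx
    rw [← conj_zpow, he]
    exact zpow_mem (pow_mem (mem_zpowers c) k) i
  set Φ := (normalizerMonoidHom C).comp (inclusion (inf_le_right : H ⊓ normalizer (C : Set G) ≤ normalizer (C : Set G)))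
    with hΦ
  have hker : Φ.ker = (H ⊓ centralizer (C : Set G)).subgroupOf (H ⊓ normalizer (C : Set G)) := by
    rw [hΦ, ← MonoidHom.comap_ker, normalizerMonoidHom_ker]
    ext ⟨x, hx⟩
    simp only [mem_comap, mem_subgroupOf, coe_inclusion, mem_inf]
    exact ⟨fun h' => ⟨hx.1, h'⟩, fun h' => h'.2⟩
  rw [relIndex, ← hker, index_ker]
  haveI : IsCyclic C := isCyclic_of_prime_card hcard
  have haut : Nat.card (MulAut C) = p - 1 := by
    rw [IsCyclic.card_mulAut, hcard, Nat.totient_prime hpf.out]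
  set x : ↥(H ⊓ normalizer (C : Set G)) := ⟨h, hh, hhN⟩ with hx
  have hpow : ∀ m : ℕ, h ^ m * c * (h ^ m)⁻¹ = c ^ k ^ m := by
    intro m
    induction m with
    | zero => simp
    | succ m ih =>
      rw [pow_succ', _root_.mul_inv_rev, show h * h ^ m * c * ((h ^ m)⁻¹ * h⁻¹) = h * (h ^ m * c * (h ^ m)⁻¹) * h⁻¹ by group,
        ih, ← conj_pow, he, ← pow_mul, ← pow_succ']
  have hdvd : p - 1 ∣ orderOf (Φ x) := by
    rw [← hk]
    refine orderOf_dvd_of_pow_eq_one ?_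
    have h1 := pow_orderOf_eq_one (Φ x)
    rw [← map_pow] at h1
    have h2 := congrArg (fun f : MulAut C => ((f ⟨c, mem_zpowers c⟩ : C) : G)) h1
    change h ^ orderOf (Φ x) * c * (h ^ orderOf (Φ x))⁻¹ = c at h2
    rw [hpow] at h2
    nth_rw 2 [← pow_one c] at h2
    rw [pow_eq_pow_iff_modEq, hc, ← ZMod.natCast_eq_natCast_iff] at h2
    simpa using h2
  refine le_antisymm (haut ▸ Finite.card_subtype_le _) ?_
  refine Nat.le_of_dvd Nat.card_pos (hdvd.trans ?_)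
  rw [← Nat.card_zpowers]
  exact card_dvd_of_le (zpowers_le.2 ⟨x, rfl⟩)

/-- A datum on an abelian `p`-group gives an eigenvector of order `p`. -/
theorem exists_eigen_of_datum {l : ZMod p} {E R : Subgroup G} {h : G} (d : IsTorusDatum l E R h)
    (hE : IsPGroup p E) (hc : ∀ x ∈ E, ∀ y ∈ E, x * y = y * x) :
    ∃ c ∈ E, orderOf c = p ∧ ∃ k : ℕ, orderOf (k : ZMod p) = p - 1 ∧ h * c * h⁻¹ = c ^ k := by
  obtain ⟨-, -, hnE, ⟨k, hk, y, hy, hne⟩, -⟩ := d
  letI : CommGroup E := { (inferInstance : Group E) with mul_comm := fun a b => Subtype.ext (hc _ a.2 _ b.2) }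
  let ψ : E →* E :=
    MonoidHom.mk' (fun x => ⟨h * (x : G) * h⁻¹, hnE x x.2⟩ * (x ^ k)⁻¹) fun a b => by
      rw [mul_pow, mul_inv, mul_mul_mul_comm]
      congr 1
      exact Subtype.ext (by simp [mul_assoc])
  have hns : ¬ Function.Surjective ψ := fun hs => by
    obtain ⟨x, hx⟩ := hs ⟨y, hy⟩
    exact hne x x.2 (congrArg Subtype.val hx)
  have hnt : ψ.ker ≠ ⊥ := fun hb =>
    hns (Finite.surjective_of_injective ((MonoidHom.ker_eq_bot_iff ψ).1 hb))
  haveI : Nontrivial ψ.ker := (Subgroup.nontrivial_iff_ne_bot _).2 hnt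
  obtain ⟨n, hn0, hn⟩ := (hE.to_subgroup ψ.ker).nontrivial_iff_card.1 inferInstance
  obtain ⟨c, hco⟩ := exists_prime_orderOf_dvd_card' p (hn ▸ dvd_pow_self p hn0.ne')
  refine ⟨((c : E) : G), (c : E).2, by rwa [orderOf_coe, orderOf_coe], k, hk, ?_⟩
  have h1 : ψ c = 1 := c.2
  have h2 := congrArg Subtype.val (mul_inv_eq_one.1 h1)
  simpa using h2

/-- A datum gives `F(p)`. -/
theorem involves_fOver_of_datum (hp : p ≠ 2) {l : ZMod p} (hl : orderOf l = p - 1) {E R : Subgroup G}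
    {h : G} (d : IsTorusDatum l E R h) (hR : IsPGroup p R) {H : Subgroup G} (hRH : R ≤ H) (hh : h ∈ H) :
    Involves (fOver (ZMod p)) H := by
  classical
  obtain ⟨-, hnR, -, -, V, ι, j, hVR, hadd, hsurj, hRV, hhV, r₁, hr₁, hjr₁⟩ := d
  have hl0 : l ≠ 0 := ne_zero_of_orderOf hl
  have hι1 : ι 1 = 0 := by
    have := hadd 1 V.one_mem 1 V.one_mem
    rwa [one_mul, left_eq_add] at this
  have hιinv : ∀ v ∈ V, ι v⁻¹ = - ι v := fun v hv => by
    have := hadd v hv v⁻¹ (inv_mem hv)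
    rw [mul_inv_cancel, hι1] at this
    exact eq_neg_of_add_eq_zero_right this.symm
  -- the exponents
  have hjmul : ∀ r ∈ R, ∀ s ∈ R, j (r * s) = j r + j s := by
    intro r hr s hs
    obtain ⟨v, hv, hvc⟩ := hsurj ![0, 1]
    have e1 := (hRV _ (mul_mem hr hs) v hv).2
    have e2 := (hRV s hs v hv)
    have e3 := (hRV r hr _ e2.1).2
    rw [show r * (s * v * s⁻¹) * r⁻¹ = r * s * v * (r * s)⁻¹ by group, e1, e2.2] at e3
    have := congrFun e3 0
    simp [hvc] at this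
    rw [this, add_comm]
  have hj1 : j 1 = 0 := by
    have := hjmul 1 R.one_mem 1 R.one_mem
    rwa [one_mul, left_eq_add] at this
  have hjinv : ∀ r ∈ R, j r⁻¹ = - j r := fun r hr => by
    have := hjmul r hr r⁻¹ (inv_mem hr)
    rw [mul_inv_cancel, hj1] at this
    exact eq_neg_of_add_eq_zero_right this.symm
  -- powers of `h`
  have hpowV : ∀ m : ℕ, ∀ v ∈ V, h ^ m * v * (h ^ m)⁻¹ ∈ V ∧
      ι (h ^ m * v * (h ^ m)⁻¹) = ![l ^ m * ι v 0, (l ^ m)⁻¹ * ι v 1] := by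
    intro m
    induction m with
    | zero => exact fun v hv => ⟨by simpa using hv, by ext i; fin_cases i <;> simp⟩
    | succ m ih =>
      intro v hv
      obtain ⟨h1, h2⟩ := ih v hv
      obtain ⟨h3, h4⟩ := hhV _ h1
      rw [show h ^ (m + 1) * v * (h ^ (m + 1))⁻¹ = h * (h ^ m * v * (h ^ m)⁻¹) * h⁻¹ by
        rw [pow_succ']; group]
      refine ⟨h3, ?_⟩
      rw [h4, h2]
      ext i; fin_cases i <;> simp [pow_succ', mul_assoc, mul_comm] <;> ring
  have hpowR : ∀ m : ℕ, ∀ x ∈ R, h ^ m * x * (h ^ m)⁻¹ ∈ R := by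
    intro m
    induction m with
    | zero => simp
    | succ m ih =>
      intro x hx
      rw [show h ^ (m + 1) * x * (h ^ (m + 1))⁻¹ = h * (h ^ m * x * (h ^ m)⁻¹) * h⁻¹ by
        rw [pow_succ']; group]
      exact hnR _ (ih x hx)
  -- a `2`-element inducing `-1`
  obtain ⟨a, m, hm2, hord⟩ := Nat.exists_eq_pow_mul_and_not_dvd (orderOf_pos h).ne' 2 (by norm_num)
  have hodd : Odd m := Nat.not_even_iff_odd.1 fun he => hm2 (even_iff_two_dvd.1 he)
  obtain ⟨q, hq⟩ := Nat.Prime.odd_of_ne_two hpf.out hp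
  set z := h ^ (q * m) with hz
  have hlq : l ^ q = -1 := by
    have h1 : (l ^ q) ^ 2 = 1 := by
      rw [← pow_mul, show q * 2 = p - 1 by omega, ← hl, pow_orderOf_eq_one]
    have hne : l ^ q ≠ 1 := fun he => by
      have hq0 : q ≠ 0 := by have := hpf.out.two_le; omega
      have := Nat.le_of_dvd (Nat.pos_of_ne_zero hq0) (orderOf_dvd_of_pow_eq_one he)
      omega
    exact (sq_eq_one_iff.1 h1).resolve_left hne
  have hlz : l ^ (q * m) = -1 := by rw [pow_mul, hlq, hodd.neg_one_pow]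
  have hz2 : IsPGroup 2 (zpowers z) := by
    rintro ⟨x, hx⟩
    obtain ⟨i, rfl⟩ := mem_zpowers_iff.1 hx
    refine ⟨a, Subtype.ext ?_⟩
    show (z ^ i) ^ 2 ^ a = 1
    rw [← zpow_natCast, ← _root_.zpow_mul, mul_comm, _root_.zpow_mul, zpow_natCast, hz, ← pow_mul,
      show q * m * 2 ^ a = orderOf h * q by rw [hord]; ring, pow_mul, pow_orderOf_eq_one, one_pow, _root_.one_zpow]
  -- a fixed element with exponent one
  have hjz : ∀ x ∈ R, j (z * x * z⁻¹) = j x := by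
    intro x hx
    obtain ⟨v, hv, hvc⟩ := hsurj ![0, 1]
    have e0 := hpowV (q * m) v hv
    have e1 := hRV x hx v hv
    have e2 := (hpowV (q * m) _ e1.1).2
    have e3 := (hRV _ (hpowR (q * m) x hx) _ e0.1).2
    rw [show h ^ (q * m) * x * (h ^ (q * m))⁻¹ * (h ^ (q * m) * v * (h ^ (q * m))⁻¹) *
      (h ^ (q * m) * x * (h ^ (q * m))⁻¹)⁻¹ = h ^ (q * m) * (x * v * x⁻¹) * (h ^ (q * m))⁻¹ by group,
      e2, e1.2, e0.2, hvc, hlz] at e3
    have := congrFun e3 0
    simp at this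
    exact this.symm
  obtain ⟨r₀, hr₀, hr₀j, hr₀z⟩ : ∃ r ∈ R, j r = 1 ∧ z * r * z⁻¹ = r := by
    let X := {x : G // x ∈ R ∧ j x = 1}
    have hzmem : ∀ w ∈ zpowers z, ∀ x ∈ R, j x = 1 → w * x * w⁻¹ ∈ R ∧ j (w * x * w⁻¹) = 1 := by
      intro w hw
      obtain ⟨i, rfl⟩ := (mem_powers_iff_mem_zpowers).2 hw
      clear hw
      induction i with
      | zero => simpa using fun x hx hx1 => And.intro hx hx1
      | succ i ih =>
        intro x hx hx1
        obtain ⟨h1, h2⟩ := ih x hx hx1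
        rw [show z ^ (i + 1) * x * (z ^ (i + 1))⁻¹ = z * (z ^ i * x * (z ^ i)⁻¹) * z⁻¹ by
          rw [pow_succ']; group]
        exact ⟨hpowR _ _ h1, (hjz _ h1).trans h2⟩
    letI : MulAction (zpowers z) X :=
      { smul := fun w x => ⟨(w : G) * (x : G) * (w : G)⁻¹, hzmem w w.2 x x.2.1 x.2.2⟩
        one_smul := fun x => Subtype.ext (by show (1 : G) * (x : G) * (1 : G)⁻¹ = x; simp)
        mul_smul := fun w w' x => Subtype.ext (by
          show ((w : G) * w') * (x : G) * ((w : G) * w')⁻¹ = (w : G) * ((w' : G) * x * (w' : G)⁻¹) * (w : G)⁻¹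
          group) }
    let R₀ : Subgroup G :=
      { carrier := {x | x ∈ R ∧ j x = 0}
        one_mem' := ⟨R.one_mem, hj1⟩
        mul_mem' := fun hx hy => ⟨mul_mem hx.1 hy.1, by rw [hjmul _ hx.1 _ hy.1, hx.2, hy.2, add_zero]⟩
        inv_mem' := fun hx => ⟨inv_mem hx.1, by rw [hjinv _ hx.1, hx.2, neg_zero]⟩ }
    have hX : Nat.card X = Nat.card R₀ := Nat.card_congr
      { toFun := fun x => ⟨r₁⁻¹ * x, mul_mem (inv_mem hr₁) x.2.1,
          by rw [hjmul _ (inv_mem hr₁) _ x.2.1, hjinv _ hr₁, hjr₁, x.2.2, neg_add_cancel]⟩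
        invFun := fun x => ⟨r₁ * x, mul_mem hr₁ x.2.1,
          by rw [hjmul _ hr₁ _ x.2.1, hjr₁, x.2.2, add_zero]⟩
        left_inv := fun x => Subtype.ext (by simp)
        right_inv := fun x => Subtype.ext (by simp) }
    have hR₀ : IsPGroup p R₀ := hR.to_le fun x hx => hx.1
    have hnd : ¬ 2 ∣ Nat.card X := by
      obtain ⟨i, hi⟩ := hR₀.exists_card_eq
      rw [hX, hi]
      exact fun hd => hp ((Nat.prime_dvd_prime_iff_eq Nat.prime_two hpf.out).1
        (Nat.prime_two.dvd_of_dvd_pow hd)).symm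
    haveI : Fact (Nat.Prime 2) := ⟨Nat.prime_two⟩
    obtain ⟨x, hx⟩ := hz2.nonempty_fixed_point_of_prime_not_dvd_card X hnd
    exact ⟨x, x.2.1, x.2.2, congrArg Subtype.val (hx ⟨z, mem_zpowers z⟩)⟩
  -- the complement
  set L := closure ({r₀, h} : Set G) with hL
  have hLC : L ≤ centralizer ({z} : Set G) := by
    rw [hL, closure_le]
    rintro x (rfl | rfl)
    · exact mem_centralizer_singleton_iff.2 (mul_inv_eq_iff_eq_mul.1 hr₀z).symm
    · exact mem_centralizer_singleton_iff.2 ((Commute.refl x).pow_right _).eq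
  let Q : G → SL(2, ZMod p) → Prop := fun x A => A 1 0 = 0 ∧ ∀ v ∈ V, x * v * x⁻¹ ∈ V ∧
    ι (x * v * x⁻¹) = (A : Matrix (Fin 2) (Fin 2) (ZMod p)) *ᵥ ι v
  have hQmul : ∀ {x y A B}, Q x A → Q y B → Q (x * y) (A * B) := by
    intro x y A B hA hB
    refine ⟨by simp [Matrix.mul_apply, Fin.sum_univ_two, hA.1, hB.1], fun v hv => ?_⟩
    obtain ⟨h1, h2⟩ := hB.2 v hv
    obtain ⟨h3, h4⟩ := hA.2 _ h1
    rw [show x * y * v * (x * y)⁻¹ = x * (y * v * y⁻¹) * x⁻¹ by group]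
    exact ⟨h3, by rw [h4, h2, Matrix.mulVec_mulVec]; rfl⟩
  have hQ1 : Q 1 1 := ⟨by simp, fun v hv => ⟨by simpa using hv, by simp⟩⟩
  have huniq : ∀ {x A B}, Q x A → Q x B → A = B := fun {x A B} hA hB => by
    apply Subtype.ext
    refine Matrix.ext_of_mulVec_single fun i => ?_
    obtain ⟨v, hv, hvc⟩ := hsurj (Pi.single i 1)
    rw [← hvc, ← (hA.2 v hv).2, ← (hB.2 v hv).2]
  let D₀ : SL(2, ZMod p) := ⟨!![l, 0; 0, l⁻¹], by simp [det_fin_two, hl0]⟩
  let U₁ : SL(2, ZMod p) := ⟨!![1, 1; 0, 1], by simp [det_fin_two]⟩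
  have hQr₀ : Q r₀ U₁ := ⟨rfl, fun v hv => ⟨(hRV r₀ hr₀ v hv).1, by
    rw [(hRV r₀ hr₀ v hv).2, hr₀j]
    ext i; fin_cases i <;> simp [U₁, Matrix.mulVec, dotProduct, Fin.sum_univ_two]⟩⟩
  have hQh : Q h D₀ := ⟨rfl, fun v hv => ⟨(hhV v hv).1, by
    rw [(hhV v hv).2]
    ext i; fin_cases i <;> simp [D₀, Matrix.mulVec, dotProduct, Fin.sum_univ_two]⟩⟩
  have hQL : ∀ x ∈ L, ∃ A, Q x A := by
    intro x hx
    rw [hL] at hx
    induction hx using closure_induction with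
    | mem x hx =>
      rcases hx with rfl | rfl
      · exact ⟨_, hQr₀⟩
      · exact ⟨_, hQh⟩
    | one => exact ⟨1, hQ1⟩
    | mul x y _ _ hA hB => obtain ⟨A, hA⟩ := hA; obtain ⟨B, hB⟩ := hB; exact ⟨_, hQmul hA hB⟩
    | inv x _ hA =>
      obtain ⟨A, hA⟩ := hA
      rw [show x⁻¹ = x ^ (orderOf x - 1) from (eq_inv_of_mul_eq_one_left (by
        rw [← pow_succ, Nat.sub_add_cancel (orderOf_pos x), pow_orderOf_eq_one])).symm]
      generalize orderOf x - 1 = i
      induction i with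
      | zero => exact ⟨1, by simpa using hQ1⟩
      | succ i ih => obtain ⟨B, hB⟩ := ih; exact ⟨B * A, by rw [pow_succ]; exact hQmul hB hA⟩
  -- `V ∩ L` is in the kernel
  have hneg : ∀ v ∈ V, v ∈ L → ι v = 0 := by
    intro v hv hvL
    have h1 := (hpowV (q * m) v hv).2
    rw [show h ^ (q * m) * v * (h ^ (q * m))⁻¹ = v by
      rw [← hz, ← mem_centralizer_singleton_iff.1 (hLC hvL), mul_inv_cancel_right], hlz] at h1
    have two : (2 : ZMod p) ≠ 0 := fun h0 => by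
      have h0' : ((2 : ℕ) : ZMod p) = 0 := by exact_mod_cast h0
      exact hp ((Nat.prime_dvd_prime_iff_eq hpf.out Nat.prime_two).1
        ((ZMod.natCast_eq_zero_iff _ _).1 h0'))
    ext i
    have h2 := congrFun h1 i
    refine (mul_eq_zero.1 (show (2 : ZMod p) * ι v i = 0 from ?_)).resolve_left two
    fin_cases i <;> simp [-mul_eq_zero] at h2 ⊢ <;> linear_combination h2
  -- conjugation by elements of `V` is trivial on the section
  have hVc : ∀ w ∈ V, Q w 1 := fun w hw => ⟨by simp, fun v hv => ⟨mul_mem (mul_mem hw hv) (inv_mem hw), by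
    rw [hadd _ (mul_mem hw hv) _ (inv_mem hw), hadd _ hw _ hv, hιinv _ hw, add_neg_cancel_comm]
    exact (Matrix.one_mulVec _).symm⟩⟩
  -- the group and the map
  let K : Subgroup G :=
    { carrier := {x | ∃ v ∈ V, ∃ w ∈ L, x = v * w}
      one_mem' := ⟨1, V.one_mem, 1, L.one_mem, by simp⟩
      mul_mem' := by
        rintro _ _ ⟨v, hv, w, hw, rfl⟩ ⟨v', hv', w', hw', rfl⟩
        obtain ⟨A, hA⟩ := hQL w hw
        exact ⟨v * (w * v' * w⁻¹), mul_mem hv (hA.2 v' hv').1, w * w', mul_mem hw hw', by group⟩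
      inv_mem' := by
        rintro _ ⟨v, hv, w, hw, rfl⟩
        obtain ⟨A, hA⟩ := hQL w⁻¹ (inv_mem hw)
        exact ⟨w⁻¹ * v⁻¹ * w⁻¹⁻¹, (hA.2 _ (inv_mem hv)).1, w⁻¹, inv_mem hw, by group⟩ }
  have hKH : K ≤ H := by
    rintro _ ⟨v, hv, w, hw, rfl⟩
    refine mul_mem (hRH (hVR hv)) (?_ : w ∈ H)
    exact (closure_le H).2 (Set.insert_subset (hRH hr₀) (Set.singleton_subset_iff.2 hh)) hw
  let Rel : G → SL(2, ZMod p) → (Fin 2 → ZMod p) → Prop := fun x A c =>
    ∃ v ∈ V, ∃ w ∈ L, x = v * w ∧ Q w A ∧ ι v = c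
  have hwell : ∀ {x A B c e}, Rel x A c → Rel x B e → A = B ∧ c = e := by
    rintro x A B c e ⟨v, hv, w, hw, rfl, hA, rfl⟩ ⟨v', hv', w', hw', he, hB, rfl⟩
    have hu : v'⁻¹ * v = w' * w⁻¹ := by
      rw [eq_mul_inv_iff_mul_eq, mul_assoc, inv_mul_eq_iff_eq_mul]; exact he
    have huV : v'⁻¹ * v ∈ V := mul_mem (inv_mem hv') hv
    have hu0 : ι (v'⁻¹ * v) = 0 := hneg _ huV (hu ▸ mul_mem hw' (inv_mem hw))
    constructor
    · refine huniq ?_ hB
      have := hQmul (hVc _ huV) hA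
      rwa [hu, inv_mul_cancel_right, one_mul] at this
    · rw [hadd _ (inv_mem hv') _ hv, hιinv _ hv'] at hu0
      linear_combination (norm := abel) hu0
  have hex : ∀ x : K, ∃ A c, Rel (x : G) A c := by
    rintro ⟨_, v, hv, w, hw, rfl⟩
    obtain ⟨A, hA⟩ := hQL w hw
    exact ⟨A, _, v, hv, w, hw, rfl, hA, rfl⟩
  choose fA fc hf using hex
  let Φ : K →* qd p := MonoidHom.mk' (fun x => QdGroup.affine p (fA x) (fc x 0, fc x 1)) fun x y => by
    obtain ⟨v, hv, w, hw, hx, hA, hc⟩ := hf x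
    obtain ⟨v', hv', w', hw', hy, hB, hc'⟩ := hf y
    obtain ⟨e1, e2⟩ := hwell (hf (x * y))
      (show Rel ((x * y : K) : G) (fA x * fA y)
          (fc x + (fA x : Matrix (Fin 2) (Fin 2) (ZMod p)) *ᵥ fc y) from
        ⟨v * (w * v' * w⁻¹), mul_mem hv (hA.2 v' hv').1, w * w', mul_mem hw hw',
          by rw [Subgroup.coe_mul, hx, hy]; group, hQmul hA hB,
          by rw [hadd _ hv _ (hA.2 v' hv').1, (hA.2 v' hv').2, hc, hc']⟩)
    rw [QdGroup.affine_mul, e1, e2]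
    congr 1
    simp [add_comm]
  have hΦ : ∀ (x : K) A c, Rel (x : G) A c → Φ x = QdGroup.affine p A (c 0, c 1) := fun x A c hx => by
    obtain ⟨e1, e2⟩ := hwell (hf x) hx
    show QdGroup.affine p (fA x) (fc x 0, fc x 1) = _
    rw [e1, e2]
  have hmem : ∀ x : K, ((Φ x : qd p) : SpecialLinearGroup (Fin 3) (ZMod p)) ∈ fOver (ZMod p) := by
    intro x
    obtain ⟨-, -, w, hw, -, hA, -⟩ := hf x
    exact Subgroup.subset_closure ⟨hA.1, rfl, rfl, rfl⟩
  let Ψ : K →* fOver (ZMod p) := ((qd p).subtype.comp Φ).codRestrict _ hmem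
  refine Cfsg.Lib.FusionSys.involves_iff_exists_hom.2
    ⟨K.subgroupOf H, Ψ.comp (subgroupOfEquivOfLe hKH).toMonoidHom, ?_⟩
  rw [MonoidHom.coe_comp]
  refine Function.Surjective.comp (?_ : Function.Surjective Ψ) (subgroupOfEquivOfLe hKH).surjective
  rw [← MonoidHom.range_eq_top, eq_top_iff]
  rintro ⟨M, hM⟩ -
  suffices hS : fOver (ZMod p) ≤ ((qd p).subtype.comp Φ).range by
    obtain ⟨x, hx⟩ := hS hM
    exact ⟨x, Subtype.ext hx⟩
  rw [fOver, Subgroup.closure_le]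
  rintro M ⟨h10, h20, h21, h22⟩
  set a := (M : Matrix (Fin 3) (Fin 3) (ZMod p)) 0 0 with ha
  set b := (M : Matrix (Fin 3) (Fin 3) (ZMod p)) 0 1 with hb
  set e := (M : Matrix (Fin 3) (Fin 3) (ZMod p)) 1 1 with he
  have hdet : a * e = 1 := by
    have hd := M.2
    rw [det_fin_three, h10, h20, h21, h22] at hd
    rw [ha, he]; linear_combination hd
  obtain ⟨i, hi⟩ : ∃ i : ℕ, l ^ i = a := by
    have ha0 : a ≠ 0 := fun h0 => by rw [h0, zero_mul] at hdet; exact zero_ne_one hdet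
    let lu : (ZMod p)ˣ := Units.mk0 l hl0
    have hlu : orderOf lu = Nat.card (ZMod p)ˣ := by
      rw [← orderOf_units, Units.val_mk0, hl, Nat.card_eq_fintype_card, ZMod.card_units]
    have htop : zpowers lu = ⊤ := Subgroup.eq_top_of_card_eq _ (by rw [Nat.card_zpowers, hlu])
    obtain ⟨i, hi⟩ := (mem_powers_iff_mem_zpowers).2 (htop.ge (mem_top (Units.mk0 a ha0)))
    exact ⟨i, by simpa [lu] using congrArg Units.val hi⟩
  set t := (b / a).val with ht
  obtain ⟨v, hv, hvc⟩ := hsurj ![(M : Matrix (Fin 3) (Fin 3) (ZMod p)) 0 2,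
    (M : Matrix (Fin 3) (Fin 3) (ZMod p)) 1 2]
  have hpowQ : ∀ {y A}, Q y A → ∀ i : ℕ, Q (y ^ i) (A ^ i) := by
    intro y A hy i
    induction i with
    | zero => simpa using hQ1
    | succ i ih => rw [pow_succ, pow_succ]; exact hQmul ih hy
  set w := h ^ i * r₀ ^ t with hw
  have hwL : w ∈ L := mul_mem (pow_mem (Subgroup.subset_closure (by simp)) _)
    (pow_mem (Subgroup.subset_closure (by simp)) _)
  refine ⟨⟨v * w, v, hv, w, hwL, rfl⟩, ?_⟩
  rw [MonoidHom.comp_apply, hΦ _ (D₀ ^ i * U₁ ^ t) (ι v)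
    ⟨v, hv, w, hwL, rfl, hQmul (hpowQ hQh i) (hpowQ hQr₀ t), rfl⟩]
  have hD : ∀ i : ℕ, ((D₀ ^ i : SL(2, ZMod p)) : Matrix (Fin 2) (Fin 2) (ZMod p)) =
      !![l ^ i, 0; 0, (l ^ i)⁻¹] := by
    intro i
    induction i with
    | zero => ext x y; fin_cases x <;> fin_cases y <;> simp
    | succ i ih =>
      rw [pow_succ, coe_mul_eq, ih]
      ext x y; fin_cases x <;> fin_cases y <;> simp [D₀, pow_succ, mul_comm]
  have hU : ∀ t : ℕ, ((U₁ ^ t : SL(2, ZMod p)) : Matrix (Fin 2) (Fin 2) (ZMod p)) =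
      !![1, (t : ZMod p); 0, 1] := by
    intro t
    induction t with
    | zero => ext x y; fin_cases x <;> fin_cases y <;> simp
    | succ t ih =>
      rw [pow_succ, coe_mul_eq, ih]
      ext x y; fin_cases x <;> fin_cases y <;> simp [U₁, add_comm]
  have ha0 : a ≠ 0 := left_ne_zero_of_mul_eq_one hdet
  apply Subtype.ext
  show ((QdGroup.affine p _ _).1 : Matrix (Fin 3) (Fin 3) (ZMod p)) = _
  rw [QdGroup.affine_coe, coe_mul_eq, hD, hU, hi, hvc]
  have hte : (t : ZMod p) = b / a := ZMod.natCast_zmod_val _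
  ext x y
  fin_cases x <;> fin_cases y <;>
    simp [h10, h20, h21, h22, ← ha, ← hb, ← he, hte, mul_div_cancel₀ b ha0,
      inv_eq_of_mul_eq_one_right hdet]

end Cfsg.Lib.Local.QuadTorus
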