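import Cfsg.Agent.Lib.Local.GlaubermanComplement
import Cfsg.Agent.Lib.Local.QuadTorus.Basic

/-!
# Facts about `J` and `Z(J)` between subgroups
-/

set_option autoImplicit false

namespace Cfsg.Lib.Local.QuadTorus

open Subgroup Cfsg
open Cfsg.Lib.Local.GlaubermanZJ

universe u v

variable {G : Type u} [Group G] [Finite G] {p : ℕ} [hp : Fact p.Prime]

omit [Finite G] in
theorem isMaxAbIn_of_between {P Q A : Subgroup G} (hA : IsMaxAbIn P A) (hAQ : A ≤ Q) (hQP : Q ≤ P) :
    IsMaxAbIn Q A :=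
  ⟨hAQ, hA.2.1, fun C hC hCc => hA.2.2 C (hC.trans hQP) hCc⟩

theorem le_thompson_of_isMaxAbIn {P A : Subgroup G} (hA : IsMaxAbIn P A) : A ≤ thompsonSubgroupAOf P := by
  rw [thompsonSubgroupAOf_eq]
  exact le_sSup hA

theorem thompson_le {P : Subgroup G} : thompsonSubgroupAOf P ≤ P := map_subtype_le _

/-- A subgroup between `J(P)` and `P` has the same Thompson subgroup. -/
theorem thompson_eq_of_between {P T : Subgroup G} (hJ : thompsonSubgroupAOf P ≤ T) (hTP : T ≤ P) :
    thompsonSubgroupAOf T = thompsonSubgroupAOf P := by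
  obtain ⟨A₀, hA₀⟩ := exists_isMaxAbIn P
  apply le_antisymm
  · rw [thompsonSubgroupAOf_eq T, sSup_le_iff]
    intro C hC
    refine le_thompson_of_isMaxAbIn ⟨hC.1.trans hTP, hC.2.1, fun D hD hDc => (hA₀.2.2 D hD hDc).trans ?_⟩
    exact hC.2.2 A₀ ((le_thompson_of_isMaxAbIn hA₀).trans hJ) hA₀.2.1
  · rw [thompsonSubgroupAOf_eq P, sSup_le_iff]
    exact fun A hA => le_thompson_of_isMaxAbIn
      (isMaxAbIn_of_between hA ((le_thompson_of_isMaxAbIn hA).trans hJ) hTP)

/-- A `p`-subgroup containing `J(S)` has the same Thompson subgroup. -/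
theorem thompson_eq_of_le (S : Sylow p G) {T : Subgroup G} (hT : IsPGroup p T)
    (hJ : thompsonSubgroupAOf (S : Subgroup G) ≤ T) :
    thompsonSubgroupAOf T = thompsonSubgroupAOf (S : Subgroup G) := by
  obtain ⟨S', hS'⟩ := hT.exists_le_sylow
  obtain ⟨g, hg⟩ := MulAction.exists_smul_eq G S S'
  have hmap : (S : Subgroup G).map (MulAut.conj g).toMonoidHom = (S' : Subgroup G) := by
    rw [← hg]; rfl
  have hJ' : thompsonSubgroupAOf (S' : Subgroup G) =
      (thompsonSubgroupAOf (S : Subgroup G)).map (MulAut.conj g).toMonoidHom := by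
    rw [map_thompsonSubgroupAOf, hmap]
  have hle : thompsonSubgroupAOf (S : Subgroup G) ≤ thompsonSubgroupAOf (S' : Subgroup G) := by
    rw [thompsonSubgroupAOf_eq (S : Subgroup G), sSup_le_iff]
    intro A hA
    refine le_thompson_of_isMaxAbIn ⟨((le_thompson_of_isMaxAbIn hA).trans hJ).trans hS', hA.2.1, ?_⟩
    intro C hC hCc
    haveI := hCc
    have h := hA.2.2 (C.map (MulAut.conj g⁻¹).toMonoidHom) (by
      rintro _ ⟨c, hc, rfl⟩
      obtain ⟨s, hs, rfl⟩ := hmap.ge (hC hc)
      simpa [mul_assoc] using (show s ∈ (S : Subgroup G) from hs)) inferInstance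
    rwa [card_map_of_injective (MulAut.conj g⁻¹).injective] at h
  have heq : thompsonSubgroupAOf (S : Subgroup G) = thompsonSubgroupAOf (S' : Subgroup G) :=
    eq_of_le_of_card_ge hle (by rw [hJ', card_map_of_injective (MulAut.conj g).injective])
  rw [heq] at hJ ⊢
  exact thompson_eq_of_between hJ hS'

theorem centerThompsonAOf_eq_of_le (S : Sylow p G) {T : Subgroup G} (hT : IsPGroup p T)
    (hJ : thompsonSubgroupAOf (S : Subgroup G) ≤ T) :
    centerThompsonAOf T = centerThompsonAOf (S : Subgroup G) := by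
  rw [centerThompsonAOf, centerThompsonAOf, thompson_eq_of_le S hT hJ]

/-- What commutes with all of `P` is in `Z(J(P))`. -/
theorem mem_centerThompsonAOf_of_commute {P : Subgroup G} {x : G} (hx : x ∈ P)
    (h : ∀ y ∈ P, Commute x y) : x ∈ centerThompsonAOf P := by
  obtain ⟨A, hA⟩ := exists_isMaxAbIn P
  exact ⟨le_thompson_of_isMaxAbIn hA (hA.mem_of_commute hx fun a ha => h a (hA.1 ha)),
    mem_centralizer_iff.2 fun y hy => (h y (thompson_le hy)).symm⟩

theorem mem_normalizer_center {P : Subgroup G} {g : G}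
    (hg : g ∈ normalizer (thompsonSubgroupAOf P : Set G)) :
    g ∈ normalizer (centerThompsonAOf P : Set G) := by
  refine mem_normalizer_fintype fun x hx => ⟨(mem_normalizer_iff.1 hg x).1 hx.1, ?_⟩
  refine mem_centralizer_iff.2 fun y hy => ?_
  have h1 := mem_centralizer_iff.1 hx.2 _ ((mem_normalizer_iff.1 (inv_mem hg) y).1 hy)
  rw [inv_inv] at h1
  calc y * (g * x * g⁻¹) = g * (g⁻¹ * y * g * x) * g⁻¹ := by group
    _ = g * (x * (g⁻¹ * y * g)) * g⁻¹ := by rw [h1]
    _ = _ := by group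

theorem normalizer_le_normalizer_thompson (P : Subgroup G) :
    normalizer (P : Set G) ≤ normalizer (thompsonSubgroupAOf P : Set G) := fun g hg => by
  refine mem_normalizer_fintype fun x hx => ?_
  have hP : P.map (MulAut.conj g).toMonoidHom = P := by
    refine Subgroup.eq_of_le_of_card_ge ?_ (le_of_eq
      (Nat.card_congr (P.equivMapOfInjective _ (MulAut.conj g).injective).toEquiv))
    rintro _ ⟨y, hy, rfl⟩
    exact (mem_normalizer_iff.1 hg y).1 hy
  have h := map_thompsonSubgroupAOf (MulAut.conj g) P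
  rw [hP] at h
  exact h.le ⟨x, hx, rfl⟩

/-- Largest abelian subgroups in a subgroup. -/
theorem isMaxAbIn_subgroupOf {M P A : Subgroup G} (hPM : P ≤ M) :
    IsMaxAbIn P A → IsMaxAbIn (P.subgroupOf M) (A.subgroupOf M) := by
  rintro ⟨hAP, hAc, hmax⟩
  refine ⟨comap_mono hAP, ⟨⟨fun x y => Subtype.ext (Subtype.ext ?_)⟩⟩, fun C hC hCc => ?_⟩
  · simpa using congrArg Subtype.val
      (hAc.is_comm.comm ⟨_, mem_subgroupOf.1 x.2⟩ ⟨_, mem_subgroupOf.1 y.2⟩)
  · haveI := hCc
    rw [← card_map_of_injective (K := C) M.subtype_injective,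
      Nat.card_congr (subgroupOfEquivOfLe (hAP.trans hPM)).toEquiv]
    exact hmax _ (map_le_iff_le_comap.2 hC) inferInstance

theorem isMaxAbIn_map_subtype {M P : Subgroup G} {A : Subgroup M} (hPM : P ≤ M) :
    IsMaxAbIn (P.subgroupOf M) A → IsMaxAbIn P (A.map M.subtype) := by
  rintro ⟨hAP, hAc, hmax⟩
  haveI := hAc
  refine ⟨map_le_iff_le_comap.2 hAP, inferInstance, fun C hC hCc => ?_⟩
  rw [card_map_of_injective M.subtype_injective,
    ← Nat.card_congr (subgroupOfEquivOfLe (hC.trans hPM)).toEquiv]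
  exact hmax _ (comap_mono hC) ⟨⟨fun x y => Subtype.ext (Subtype.ext (by
    simpa using congrArg Subtype.val
      (hCc.is_comm.comm ⟨_, mem_subgroupOf.1 x.2⟩ ⟨_, mem_subgroupOf.1 y.2⟩)))⟩⟩

end Cfsg.Lib.Local.QuadTorus
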