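import Cfsg.Agent.Lib.Local.QuadTorus.Torus
import Cfsg.Agent.Lib.Local.QuadTorus.FModel
import Cfsg.Agent.Lib.Local.QuadTorus.JFacts

/-!
# From a frame to the conclusion

`Frame`: a subgroup `M` with an elementary section `Bp / D` on which some quadratic `p`-elements of `P'` act,
every proper overgroup of `P'` in `M` having its maps within `P'` induced by the normalizer of `Z(J(S))`.
-/

set_option autoImplicit false
set_option linter.style.haveILetI false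

namespace Cfsg.Lib.Local.QuadTorus

open Subgroup Cfsg
open Cfsg.Lib.Local.GlaubermanZJ

universe u

variable {p : ℕ} {G : Type u} [Group G]

/-- The map `a ↦ g a g⁻¹` on `A` is induced by an element of `H`. -/
def Induced (H A : Subgroup G) (g : G) : Prop :=
  ∃ h ∈ H, ∀ a ∈ A, h * a * h⁻¹ = g * a * g⁻¹

/-- The conclusion about a Sylow subgroup. -/
def Concl (p : ℕ) [Fact p.Prime] {G : Type u} [Group G] (S : Subgroup G) : Prop :=
  Involves (fOver (ZMod p)) ↥(normalizer (centerThompsonAOf S : Set G)) ∧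
    ∃ c ∈ centerThompsonAOf S, orderOf c = p ∧ ∃ h ∈ normalizer (centerThompsonAOf S : Set G),
      ∃ k : ℕ, orderOf (k : ZMod p) = p - 1 ∧ h * c * h⁻¹ = c ^ k

/-- The `p`-elements acting quadratically on `Bp` modulo `D`. -/
def quadMod (p : ℕ) (D Bp : Subgroup G) : Set G :=
  {x | (∃ i : ℕ, x ^ p ^ i = 1) ∧ ∀ w ∈ Bp,
    x * (x * w * x⁻¹ * w⁻¹) * x⁻¹ * (x * w * x⁻¹ * w⁻¹)⁻¹ ∈ D}

/-- See the module docstring. -/
structure Frame (S D M Bp P' : Subgroup G) (p : ℕ) : Prop where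
  le_bp : D ≤ Bp
  bp_le : Bp ≤ P'
  le_S : P' ≤ S
  le_M : P' ≤ M
  idx : ¬ p ∣ P'.relIndex M
  norm : M ≤ normalizer (Bp : Set G)
  comm : ∀ x ∈ Bp, ∀ y ∈ Bp, x * y * x⁻¹ * y⁻¹ ∈ D
  pow : ∀ x ∈ Bp, x ^ p ∈ D
  notnorm : ¬ M ≤ normalizer ((centerThompsonAOf S ⊓ Bp : Subgroup G) : Set G)
  sub : ∀ K : Subgroup G, P' ≤ K → K < M → ∀ k ∈ K, ∀ A ≤ P', (∀ a ∈ A, k * a * k⁻¹ ∈ P') →
    Induced (normalizer (centerThompsonAOf S : Set G)) A k
  notnormU : ¬ M ≤ normalizer (closure (quadMod p D Bp ∩ P') : Set G)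

variable [Finite G] [hp : Fact p.Prime]

theorem Frame.concl (h2 : p ≠ 2) (S : Sylow p G) {D M Bp P' : Subgroup G} [D.Normal]
    (hDY : D ≤ centerThompsonAOf (S : Subgroup G)) (F : Frame (S : Subgroup G) D M Bp P' p) :
    Concl p (S : Subgroup G) := by
  classical
  set Y := centerThompsonAOf (S : Subgroup G) with hY
  set H := normalizer (Y : Set G) with hH
  set T₂ := Y ⊓ Bp with hT₂
  have hDT₂ : D ≤ T₂ := le_inf hDY F.le_bp
  have hDP : D ≤ P' := F.le_bp.trans F.bp_le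
  have hT₂P : T₂ ≤ P' := inf_le_right.trans F.bp_le
  have hSH : (S : Subgroup G) ≤ H := le_normalizer.trans (normalizer_le_normalizer_centerThompsonAOf _)
  -- proper overgroups of `P'` normalize `T₂`
  have hover : ∀ K : Subgroup G, P' ≤ K → K < M → K ≤ normalizer (T₂ : Set G) := fun K hPK hK k hk => by
    refine mem_normalizer_fintype fun t ht => ?_
    have hmap : ∀ a ∈ T₂, k * a * k⁻¹ ∈ P' := fun a ha =>
      F.bp_le ((mem_normalizer_iff.1 (F.norm (hK.le hk)) a).1 ha.2)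
    obtain ⟨h, hh, he⟩ := F.sub K hPK hK k hk T₂ hT₂P hmap
    exact ⟨he t ht ▸ (mem_normalizer_iff.1 hh t).1 ht.1, (mem_normalizer_iff.1 (F.norm (hK.le hk)) t).1 ht.2⟩
  -- the quotient
  set DM := D.subgroupOf M with hDM
  set q := QuotientGroup.mk' DM with hq
  have hqs : Function.Surjective q := QuotientGroup.mk'_surjective DM
  have hq1 : ∀ x : M, q x = 1 ↔ (x : G) ∈ D := fun x =>
    (QuotientGroup.eq_one_iff x).trans mem_subgroupOf
  set Bg := (Bp.subgroupOf M).map q with hBg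
  haveI : (Bp.subgroupOf M).Normal :=
    ⟨fun x hx g => mem_subgroupOf.2 ((mem_normalizer_iff.1 (F.norm g.2) _).1 (mem_subgroupOf.1 hx))⟩
  haveI : Bg.Normal := Subgroup.Normal.map inferInstance q hqs
  have hBc : ∀ x ∈ Bg, ∀ y ∈ Bg, x * y = y * x := by
    rintro _ ⟨x, hx, rfl⟩ _ ⟨y, hy, rfl⟩
    have h : q (x * y * x⁻¹ * y⁻¹) = 1 := (hq1 _).2 (F.comm _ hx _ hy)
    rw [map_mul, map_mul, map_mul, map_inv, map_inv, mul_inv_eq_one, mul_inv_eq_iff_eq_mul] at h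
    exact h
  have hBp : ∀ w ∈ Bg, w ^ p = 1 := by
    rintro _ ⟨x, hx, rfl⟩
    rw [← map_pow]
    exact (hq1 _).2 (F.pow _ hx)
  have hP'p : IsPGroup p (P'.subgroupOf M) :=
    (S.isPGroup'.to_le F.le_S).of_equiv (subgroupOfEquivOfLe F.le_M).symm
  let SM : Sylow p M := hP'p.toSylow F.idx
  let Pg : Sylow p (M ⧸ DM) := SM.mapSurjective hqs
  have hPg : (Pg : Subgroup (M ⧸ DM)) = (P'.subgroupOf M).map q := Sylow.coe_mapSurjective hqs SM
  set Tg := (T₂.subgroupOf M).map q with hTg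
  have hTg_comap : Tg.comap q = T₂.subgroupOf M := by
    rw [hTg, comap_map_eq, sup_eq_left, QuotientGroup.ker_mk']
    exact comap_mono hDT₂
  have hkerP : q.ker ≤ P'.subgroupOf M := by
    rw [QuotientGroup.ker_mk']; exact comap_mono hDP
  have hT2M : T₂ ≤ M := hT₂P.trans F.le_M
  have hnormT : ∀ g : M, q g ∈ normalizer (Tg : Set (M ⧸ DM)) → (g : G) ∈ normalizer (T₂ : Set G) := by
    intro g hg
    refine mem_normalizer_fintype fun t ht => ?_
    have h1 := (mem_normalizer_iff.1 hg (q ⟨t, hT2M ht⟩)).1 ⟨_, (ht : (⟨t, hT2M ht⟩ : M) ∈ T₂.subgroupOf M), rfl⟩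
    rw [← map_inv, ← map_mul, ← map_mul, ← mem_comap, hTg_comap] at h1
    exact mem_subgroupOf.1 h1
  have hnormT' : ∀ g : M, (g : G) ∈ normalizer (T₂ : Set G) → q g ∈ normalizer (Tg : Set (M ⧸ DM)) := by
    intro g hg
    refine mem_normalizer_fintype ?_
    rintro _ ⟨t, ht, rfl⟩
    exact ⟨g * t * g⁻¹, mem_subgroupOf.2 ((mem_normalizer_iff.1 hg _).1 (mem_subgroupOf.1 ht)), by simp⟩
  have hTn : ¬ Tg.Normal := fun hn => F.notnorm fun g hg =>
    hnormT ⟨g, hg⟩ (by rw [normalizer_eq_top_iff.2 hn]; exact mem_top _)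
  have hP'norm : P' ≤ normalizer (T₂ : Set G) := by
    rcases eq_or_lt_of_le F.le_M with he | hlt
    · intro x hx
      refine mem_normalizer_fintype fun t ht => ⟨?_, (mem_normalizer_iff.1 (F.norm (F.le_M hx)) t).1 ht.2⟩
      exact (mem_normalizer_iff.1 (hSH (F.le_S hx)) t).1 ht.1
    · exact hover P' le_rfl hlt
  have hPT : (Pg : Subgroup (M ⧸ DM)) ≤ normalizer (Tg : Set (M ⧸ DM)) := by
    rw [hPg]
    rintro _ ⟨x, hx, rfl⟩
    exact hnormT' x (hP'norm (mem_subgroupOf.1 hx))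
  -- the quadratic elements
  set U := closure (quadMod p D Bp ∩ (P' : Set G)) with hU
  have hUP : U ≤ P' := (closure_le _).2 Set.inter_subset_right
  have hDquad : D ≤ U := fun d hd => subset_closure ⟨⟨by
      obtain ⟨i, hi⟩ := (S.isPGroup'.to_le (hDP.trans F.le_S)) ⟨d, hd⟩
      exact ⟨i, congrArg Subtype.val hi⟩, fun w hw => by
      have hc : d * w * d⁻¹ * w⁻¹ ∈ D := by
        rw [show d * w * d⁻¹ * w⁻¹ = d * (w * d⁻¹ * w⁻¹) by group]
        exact mul_mem hd ((inferInstance : D.Normal).conj_mem _ (inv_mem hd) w)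
      exact mul_mem ((inferInstance : D.Normal).conj_mem _ hc d) (inv_mem hc)⟩, hDP hd⟩
  have hquad_iff : ∀ x : M, (x : G) ∈ P' → (q x ∈ quad p Bg ↔ (x : G) ∈ quadMod p D Bp) := by
    intro x hx
    constructor
    · rintro ⟨-, h⟩
      obtain ⟨i, hi⟩ := (S.isPGroup'.to_le F.le_S) ⟨x, hx⟩
      refine ⟨⟨i, congrArg Subtype.val hi⟩, fun w hw => ?_⟩
      have hwM : w ∈ M := F.le_M (F.bp_le hw)
      have h' := (h (q ⟨w, hwM⟩) ⟨_, (hw : (⟨w, hwM⟩ : M) ∈ Bp.subgroupOf M), rfl⟩).eq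
      rw [← eq_mul_inv_iff_mul_eq] at h'
      have h3 : q (x * (x * ⟨w, hwM⟩ * x⁻¹ * ⟨w, hwM⟩⁻¹) * x⁻¹ * (x * ⟨w, hwM⟩ * x⁻¹ * ⟨w, hwM⟩⁻¹)⁻¹) = 1 := by
        simp only [map_mul, map_inv]
        rw [mul_inv_eq_one]
        rw [eq_mul_inv_iff_mul_eq] at h'
        exact mul_inv_eq_iff_eq_mul.2 h'
      simpa using (hq1 _).1 h3
    · rintro ⟨⟨i, hi⟩, h⟩
      refine ⟨⟨i, by rw [← map_pow, show x ^ p ^ i = 1 from Subtype.ext (by simpa using hi), map_one]⟩, ?_⟩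
      rintro _ ⟨w, hw, rfl⟩
      have h3 : q (x * (x * w * x⁻¹ * w⁻¹) * x⁻¹ * (x * w * x⁻¹ * w⁻¹)⁻¹) = 1 :=
        (hq1 _).2 (by simpa using h _ (mem_subgroupOf.1 hw))
      simp only [map_mul, map_inv] at h3
      rw [mul_inv_eq_one, mul_inv_eq_iff_eq_mul] at h3
      exact h3
  have hUg : closure (quad p Bg ∩ ((Pg : Subgroup (M ⧸ DM)) : Set (M ⧸ DM))) = (U.subgroupOf M).map q := by
    apply le_antisymm
    · rw [closure_le]
      rintro _ ⟨hy, hyP⟩
      rw [SetLike.mem_coe, hPg] at hyP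
      obtain ⟨x, hx, rfl⟩ := hyP
      exact ⟨x, mem_subgroupOf.2 (subset_closure ⟨(hquad_iff x (mem_subgroupOf.1 hx)).1 hy,
        mem_subgroupOf.1 hx⟩), rfl⟩
    · rintro _ ⟨⟨x, hxM⟩, hxU, rfl⟩
      rw [SetLike.mem_coe, mem_subgroupOf] at hxU
      suffices h : ∀ y ∈ U, ∀ hy : y ∈ M,
          q ⟨y, hy⟩ ∈ closure (quad p Bg ∩ ((Pg : Subgroup (M ⧸ DM)) : Set (M ⧸ DM))) from h x hxU hxM
      intro y hy
      induction hy using closure_induction with
      | mem y hy =>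
        intro hyM
        refine subset_closure ⟨(hquad_iff ⟨y, hyM⟩ hy.2).2 hy.1, ?_⟩
        rw [SetLike.mem_coe, hPg]
        exact ⟨_, (hy.2 : (⟨y, hyM⟩ : M) ∈ P'.subgroupOf M), rfl⟩
      | one =>
        intro h1
        rw [show (⟨1, h1⟩ : M) = 1 from rfl, map_one]
        exact one_mem _
      | mul y z hy hz ihy ihz =>
        intro hM'
        have hyM := F.le_M (hUP hy)
        have hzM := F.le_M (hUP hz)
        rw [show (⟨y * z, hM'⟩ : M) = ⟨y, hyM⟩ * ⟨z, hzM⟩ from rfl, map_mul]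
        exact mul_mem (ihy hyM) (ihz hzM)
      | inv y hy ihy =>
        intro hM'
        have hyM := F.le_M (hUP hy)
        rw [show (⟨y⁻¹, hM'⟩ : M) = ⟨y, hyM⟩⁻¹ from rfl, map_inv]
        exact inv_mem (ihy hyM)
  have hUnorm : M ⊓ normalizer (U : Set G) ≤ normalizer (T₂ : Set G) := by
    refine hover _ (le_inf F.le_M fun x hx => ?_) (lt_of_le_of_ne inf_le_left fun he => F.notnormU (inf_eq_left.1 he))
    refine mem_normalizer_fintype fun y hy => ?_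
    have hm : U.map (MulAut.conj x).toMonoidHom ≤ U := by
      rw [hU, MonoidHom.map_closure, closure_le]
      rintro _ ⟨z, ⟨⟨⟨i, hi⟩, hz⟩, hzP⟩, rfl⟩
      refine subset_closure ⟨⟨⟨i, by rw [← map_pow, hi, map_one]⟩, fun w hw => ?_⟩,
        mul_mem (mul_mem hx hzP) (inv_mem hx)⟩
      have h1 := (inferInstance : D.Normal).conj_mem _
        (hz (x⁻¹ * w * x) (by simpa using (mem_normalizer_iff.1 (inv_mem (F.norm (F.le_M hx))) w).1 hw)) x
      convert h1 using 1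
      simp only [MulEquiv.coe_toMonoidHom, MulAut.conj_apply]
      group
    exact hm ⟨y, hy, rfl⟩
  have hUN : normalizer (closure (quad p Bg ∩ ((Pg : Subgroup (M ⧸ DM)) : Set (M ⧸ DM))) : Set (M ⧸ DM)) ≤
      normalizer (Tg : Set (M ⧸ DM)) := by
    rw [hUg]
    intro g hg
    obtain ⟨g, rfl⟩ := hqs g
    refine hnormT' g (hUnorm ⟨g.2, mem_normalizer_fintype fun u hu => ?_⟩)
    have huM : u ∈ M := F.le_M (hUP hu)
    have h1 := (mem_normalizer_iff.1 hg (q ⟨u, huM⟩)).1 ⟨_, (hu : (⟨u, huM⟩ : M) ∈ U.subgroupOf M), rfl⟩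
    rw [← map_inv, ← map_mul, ← map_mul, ← mem_comap, comap_map_eq, sup_eq_left.2 (by
      rw [QuotientGroup.ker_mk']; exact comap_mono hDquad)] at h1
    exact mem_subgroupOf.1 h1
  -- the torus
  obtain ⟨l, hl⟩ := IsCyclic.exists_ofOrder_eq_natCard (α := (ZMod p)ˣ)
  have hl' : orderOf (l : ZMod p) = p - 1 := by
    rw [orderOf_units, hl, Nat.card_eq_fintype_card, ZMod.card_units]
  obtain ⟨R, n, hRP, hnT, hd⟩ := exists_torusDatum h2 hl' Bg hBc hBp Pg
    (map_mono (comap_mono inf_le_right)) hPT hTn hUN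
  obtain ⟨n, rfl⟩ := hqs n
  have hTe : (Tg.comap q).map M.subtype = T₂ := by rw [hTg_comap, map_subgroupOf_eq_of_le hT2M]
  have hd' : IsTorusDatum (l : ZMod p) T₂ ((R.comap q).map M.subtype) (n : G) :=
    hTe ▸ (hd.comap q hqs).map_subtype
  set R' := (R.comap q).map M.subtype with hR'
  have hR'P : R' ≤ P' := by
    rintro _ ⟨x, hx, rfl⟩
    have h1 : x ∈ ((Pg : Subgroup (M ⧸ DM))).comap q := hRP hx
    rw [hPg, comap_map_eq, sup_eq_left.2 hkerP] at h1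
    exact mem_subgroupOf.1 h1
  set K := M ⊓ normalizer (T₂ : Set G) with hK
  have hKlt : K < M := lt_of_le_of_ne inf_le_left fun he => F.notnorm (inf_eq_left.1 he)
  obtain ⟨-, hnR, -⟩ := id hd'
  obtain ⟨h, hh, hhe⟩ := F.sub K (le_inf F.le_M hP'norm) hKlt n ⟨n.2, hnormT n hnT⟩ R' hR'P
    (fun a ha => hR'P (hnR a ha))
  have hd'' := hd'.congr hhe
  refine ⟨involves_fOver_of_datum h2 hl' hd'' (S.isPGroup'.to_le (hR'P.trans F.le_S))
    ((hR'P.trans F.le_S).trans hSH) hh, ?_⟩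
  obtain ⟨A, hA⟩ := exists_isMaxAbIn (S : Subgroup G)
  have hYA : Y ≤ A := centerThompsonAOf_le_of_isMaxAbIn hA
  obtain ⟨c, hc, hco, k, hk, hce⟩ := exists_eigen_of_datum hd''
    (S.isPGroup'.to_le (hT₂P.trans F.le_S))
    (fun x hx y hy => congrArg Subtype.val (hA.2.1.is_comm.comm ⟨x, hYA hx.1⟩ ⟨y, hYA hy.1⟩))
  exact ⟨c, hc.1, hco, h, hh, k, hk, hce⟩

end Cfsg.Lib.Local.QuadTorus
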