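import Cfsg.Agent.Lib.Linear.DicksonTwo

/-!
# A torus element normalizing the line of a quadratic element

* `exists_torus`: a finite subgroup of `SL₂` containing `tU 1` and not triangular contains an upper triangular
  element with a generator of `(ZMod p)ˣ` on the diagonal, diagonalizable.
* `exists_torus_plane`: the same for two quadratic automorphisms acting irreducibly with nonzero anticommutator.
-/

set_option autoImplicit false
set_option linter.style.haveILetI false
set_option linter.unusedSectionVars false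

namespace Cfsg.Lib.Local.QuadTorus

open Matrix Cfsg.Lib.Linear.Dickson
open scoped MatrixGroups

theorem zmod_three : ∀ y : ZMod 3, y ≠ 0 → y = 1 ∨ y = -1 := by decide

variable {p : ℕ} [hp : Fact p.Prime]

section Matrices

variable {F : Type*} [Field F] [CharP F p]

/-- A criterion for containing a conjugate of `SL₂` over the prime field by a triangular matrix. -/
theorem exists_triangular_of_criterion (H : Subgroup SL(2, F)) {a b : F} (ha : tU a ∈ H) (hb : tU b ∈ H)
    {h : SL(2, F)} (hh : h ∈ H) (n : ZMod p) (hn : n ≠ 0)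
    (he : a * b * (h 1 0 * h 1 0) = ZMod.castHom (dvd_refl p) F n) :
    ∃ (g : GL (Fin 2) F) (z : F), (g : Matrix (Fin 2) (Fin 2) F) = !![a, z; 0, 1] ∧ ∀ A : SL(2, ZMod p),
      conjGL g (SpecialLinearGroup.map (ZMod.castHom (dvd_refl p) F) A) ∈ H := by
  set ι := ZMod.castHom (dvd_refl p) F with hι
  have hne : a * b * (h 1 0 * h 1 0) ≠ 0 := by
    rw [he]; exact (map_ne_zero ι).2 hn
  have ha0 : a ≠ 0 := fun h0 => hne (by rw [h0]; ring)
  have hγ : h 1 0 ≠ 0 := fun h0 => hne (by rw [h0]; ring)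
  set z₀ := h 0 0 / h 1 0 with hz₀
  have hz : z₀ * h 1 0 = h 0 0 := div_mul_cancel₀ _ hγ
  let g : GL (Fin 2) F := GeneralLinearGroup.mkOfDetNeZero !![a, z₀; 0, 1]
    (by simpa [det_fin_two] using ha0)
  have hg : (g : Matrix (Fin 2) (Fin 2) F) = !![a, z₀; 0, 1] := rfl
  have e1 : conjGL g (tU 1) = tU a := by
    refine conjGL_eq_of_mul_eq g ?_
    rw [hg, tU_coe, tU_coe]
    ext i j
    fin_cases i <;> fin_cases j <;> simp [add_comm]
  set y := h * tU b * h⁻¹ with hy
  have hd := det_eq h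
  have y00 : y 0 0 = 1 - b * (h 0 0 * h 1 0) := by
    simp only [hy, Cfsg.Lib.Linear.Dickson.mul_apply', (inv_apply00 _).1, (inv_apply00 _).2.2.1]
    simp [tU_coe]
    linear_combination hd
  have y01 : y 0 1 = b * (h 0 0 * h 0 0) := by
    simp only [hy, Cfsg.Lib.Linear.Dickson.mul_apply', (inv_apply00 _).2.1, (inv_apply00 _).2.2.2]
    simp [tU_coe]
    ring
  have y10 : y 1 0 = -(b * (h 1 0 * h 1 0)) := by
    simp only [hy, Cfsg.Lib.Linear.Dickson.mul_apply', (inv_apply00 _).1, (inv_apply00 _).2.2.1]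
    simp [tU_coe]
    ring
  have y11 : y 1 1 = 1 + b * (h 0 0 * h 1 0) := by
    simp only [hy, Cfsg.Lib.Linear.Dickson.mul_apply', (inv_apply00 _).2.1, (inv_apply00 _).2.2.2]
    simp [tU_coe]
    linear_combination hd
  have e2 : conjGL g (tL (ι (-n))) = y := by
    refine conjGL_eq_of_mul_eq g ?_
    rw [hg, tL_coe, map_neg, ← he]
    ext i j
    fin_cases i <;> fin_cases j <;>
      simp [Matrix.mul_apply, Fin.sum_univ_two, y00, y01, y10, y11] <;>
      first
        | linear_combination -(a * b * h 1 0) * hz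
        | linear_combination (b * h 0 0) * hz
        | linear_combination (b * h 1 0) * hz
        | ring1
  refine ⟨g, z₀, hg, fun A => ?_⟩
  set φ : SL(2, ZMod p) →* SL(2, F) := (conjGL g).comp (SpecialLinearGroup.map ι) with hφ
  suffices htop : H.comap φ = ⊤ from (htop.ge (Subgroup.mem_top A) : A ∈ H.comap φ)
  rw [eq_top_iff, ← Cfsg.Lib.Linear.closure_transvection_eq_top, Subgroup.closure_le]
  have hU : ∀ c : ZMod p, conjGL g (tU (ι c)) ∈ H := fun c => by
    rw [show ι c = ((c.val : ℕ) : F) * 1 by rw [mul_one, ← map_natCast ι, ZMod.natCast_zmod_val],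
      ← tU_pow, map_pow, e1]
    exact pow_mem ha _
  have hL : ∀ c : ZMod p, conjGL g (tL (ι c)) ∈ H := fun c => by
    rw [show ι c = (((c / -n).val : ℕ) : F) * ι (-n) by
      rw [← map_natCast ι, ZMod.natCast_zmod_val, ← map_mul, div_mul_cancel₀ c (neg_ne_zero.2 hn)],
      ← tL_pow, map_pow, e2]
    exact pow_mem (mul_mem (mul_mem hh hb) (inv_mem hh)) _
  rintro t ⟨i, j, hij, c, rfl⟩
  show φ _ ∈ H
  fin_cases i <;> fin_cases j
  · exact absurd rfl hij
  · convert hU c using 1
    simp only [hφ, MonoidHom.comp_apply]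
    congr 1
    apply ext_two <;>
      simp [tU_coe, map_apply',
        SpecialLinearGroup.transvection_coe, Matrix.single]
  · convert hL c using 1
    simp only [hφ, MonoidHom.comp_apply]
    congr 1
    apply ext_two <;>
      simp [tL_coe, map_apply',
        SpecialLinearGroup.transvection_coe, Matrix.single]
  · exact absurd rfl hij

theorem exists_torus (h2 : p ≠ 2) {l : ZMod p} (hl : orderOf l = p - 1) (H : Subgroup SL(2, F)) [Finite H]
    (h1 : tU 1 ∈ H) {h₀ : SL(2, F)} (hh₀ : h₀ ∈ H) (h₀10 : h₀ 1 0 ≠ 0) :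
    ∃ x ∈ H, x 1 0 = 0 ∧ x 0 0 = ZMod.castHom (dvd_refl p) F l ∧ (x 0 1 = 0 ∨ x 0 0 ≠ x 1 1) := by
  classical
  set ι := ZMod.castHom (dvd_refl p) F with hι
  have one_mem' : (1 : F) ∈ trans H := h1
  have hl0 : l ≠ 0 := by
    rintro rfl
    have := hp.out.two_le
    rw [orderOf_zero] at hl
    omega
  have hιl : ι l ≠ 0 := (map_ne_zero ι).2 hl0
  rcases count_cases h2 H h1 hh₀ h₀10 with hcard | ⟨hA3, -, x, hxH, x10, x00⟩
  · have hTfin : (trans H : Set F).Finite := by
      refine Set.Finite.subset (Set.toFinite ((fun y : H => (y : SL(2, F)) 0 1) '' Set.univ)) ?_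
      intro a ha
      exact ⟨⟨tU a, ha⟩, trivial, by simp [tU_coe]⟩
    haveI : Finite (trans H) := hTfin.to_subtype
    set z₀ := h₀ 0 0 / h₀ 1 0 with hz₀
    have hz₀m : z₀ ∈ ratios H := ⟨h₀, hh₀, h₀10, by rw [hz₀, div_mul_cancel₀ _ h₀10]⟩
    have hRfin : (ratios H).Finite := by
      refine Set.finite_coe_iff.1 (Nat.finite_of_card_ne_zero ?_)
      rw [hcard]
      exact Nat.card_pos.ne'
    have heq : (fun a => z₀ + a) '' (trans H : Set F) = ratios H := by
      refine Set.eq_of_subset_of_ncard_le (fun z ⟨a, ha, hz⟩ => hz ▸ ratios_add hz₀m ha) ?_ hRfin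
      rw [Set.ncard_image_of_injective _ (add_right_injective z₀), ← Nat.card_coe_set_eq,
        ← Nat.card_coe_set_eq, hcard]
      rfl
    have hcol : h₀ 0 0 / h₀ 1 0 - 1 / (h₀ 1 0 * h₀ 1 0) ∈ ratios H := by
      refine ⟨h₀ * tU 1 * h₀⁻¹, mul_mem (mul_mem hh₀ h1) (inv_mem hh₀), ?_, ?_⟩
      · simp only [Cfsg.Lib.Linear.Dickson.mul_apply', (inv_apply00 _).1, (inv_apply00 _).2.2.1]
        simp [tU_coe]
        intro h0
        exact h₀10 (by simpa using (show h₀ 1 0 * h₀ 1 0 = 0 by linear_combination -h0))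
      · simp only [Cfsg.Lib.Linear.Dickson.mul_apply', (inv_apply00 _).1, (inv_apply00 _).2.2.1]
        simp [tU_coe]
        field_simp
        linear_combination h₀ 1 0 * det_eq h₀
    obtain ⟨a, ha, hae⟩ := heq.ge hcol
    have ha' : a = -(1 / (h₀ 1 0 * h₀ 1 0)) := by
      have hae' : z₀ + a = z₀ - 1 / (h₀ 1 0 * h₀ 1 0) := hae
      linear_combination hae'
    obtain ⟨g, z, hg, hgH⟩ := exists_triangular_of_criterion H (show tU a ∈ H from ha) h1 hh₀ (-1)
      (neg_ne_zero.2 one_ne_zero) (by rw [map_neg, map_one, ha']; field_simp)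
    have ha0 : a ≠ 0 := by rw [ha']; simp [h₀10]
    let M : SL(2, F) := ⟨!![ι l, z * ((ι l)⁻¹ - ι l); 0, (ι l)⁻¹], by simp [det_fin_two, hιl]⟩
    refine ⟨M, ?_, by simp [M], by simp [M], ?_⟩
    · have hM : conjGL g (SpecialLinearGroup.map ι ⟨!![l, 0; 0, l⁻¹], by simp [det_fin_two, hl0]⟩) = M := by
        have hd : ((SpecialLinearGroup.map ι (⟨!![l, 0; 0, l⁻¹], by simp [det_fin_two, hl0]⟩ : SL(2, ZMod p)) :
            SL(2, F)) : Matrix (Fin 2) (Fin 2) F) = !![ι l, 0; 0, (ι l)⁻¹] := by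
          ext i j
          show ι _ = _
          fin_cases i <;> fin_cases j <;> simp [map_inv₀]
        refine conjGL_eq_of_mul_eq g ?_
        rw [hg, hd]
        ext i j
        fin_cases i <;> fin_cases j <;> simp [M, Matrix.mul_apply, Fin.sum_univ_two, mul_comm a] <;> ring
      rw [← hM]
      exact hgH _
    · by_cases he : ι l = (ι l)⁻¹
      · left; simp [M, ← he]
      · right; simpa [M] using he
  · -- the exceptional case
    have hp3 : p = 3 := by
      haveI : Finite (trans H) := Nat.finite_of_card_ne_zero (by rw [hA3]; norm_num)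
      have h := congrArg Subtype.val (card_nsmul_eq_zero' (x := (⟨1, one_mem'⟩ : trans H)))
      rw [hA3] at h
      have h3 : ((3 : ℕ) : F) = 0 := by simpa using h
      exact (Nat.prime_dvd_prime_iff_eq hp.out Nat.prime_three).1 ((CharP.cast_eq_zero_iff F p 3).1 h3)
    subst hp3
    have hl2 : l = -1 := by
      refine (zmod_three l hl0).resolve_left fun h => ?_
      rw [h, orderOf_one] at hl
      omega
    have hxd := det_eq x
    rw [x10] at hxd
    have x11 : x 1 1 = -x 0 0 := by linear_combination (x 1 1) * x00 - (x 0 0) * hxd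
    refine ⟨x * x, mul_mem hxH hxH, ?_, ?_, Or.inl ?_⟩
    · simp [Cfsg.Lib.Linear.Dickson.mul_apply', x10]
    · rw [hl2, map_neg, map_one, Cfsg.Lib.Linear.Dickson.mul_apply', x10, mul_zero, add_zero, x00]
    · rw [Cfsg.Lib.Linear.Dickson.mul_apply', x11]; ring

end Matrices

variable {W : Type*} [AddCommGroup W] [Module (ZMod p) W] [Finite W]

/-- The module form. -/
theorem exists_torus_plane (h2 : p ≠ 2) {l : ZMod p} (hl : orderOf l = p - 1) (a b : W ≃ₗ[ZMod p] W)
    (ha : ∀ w, a (a w - w) = a w - w) (hb : ∀ w, b (b w - w) = b w - w)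
    (hirr : ∀ U : Submodule (ZMod p) W, (∀ u ∈ U, a u ∈ U) → (∀ u ∈ U, b u ∈ U) → U = ⊥ ∨ U = ⊤)
    (hC' : (a.toLinearMap - 1) * (b.toLinearMap - 1) + (b.toLinearMap - 1) * (a.toLinearMap - 1) ≠ 0) :
    ∃ g ∈ Subgroup.closure ({a, b} : Set (W ≃ₗ[ZMod p] W)),
      (∃ k : ℕ, g * a * g⁻¹ = a ^ k) ∧ (∀ w, g (g w) - (l + l⁻¹) • g w + w = 0) ∧
      ∃ v₁ v₂ : W, v₁ ≠ 0 ∧ a v₁ = v₁ ∧ a v₂ = v₂ + v₁ ∧ g v₁ = l • v₁ ∧ g v₂ = l⁻¹ • v₂ := by
  classical
  set A : Module.End (ZMod p) W := a.toLinearMap - 1 with hA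
  set B : Module.End (ZMod p) W := b.toLinearMap - 1 with hB
  have hAe : ∀ w, a w = w + A w := fun w => by simp [hA]
  have hBe : ∀ w, b w = w + B w := fun w => by simp [hB]
  have hA2 : ∀ w, A (A w) = 0 := fun w => by simp [hA, ha w]
  have hB2 : ∀ w, B (B w) = 0 := fun w => by simp [hB, hb w]
  have hirr' : ∀ U : Submodule (ZMod p) W, (∀ u ∈ U, A u ∈ U) → (∀ u ∈ U, B u ∈ U) →
      U = ⊥ ∨ U = ⊤ := fun U h1 h3 => hirr U
    (fun u hu => by rw [hAe]; exact add_mem hu (h1 u hu))
    (fun u hu => by rw [hBe]; exact add_mem hu (h3 u hu))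
  set C : Module.End (ZMod p) W := A * B + B * A with hC
  have hCA : C * A = A * C := by
    ext w; simp [hC, Module.End.mul_apply, map_add, hA2]
  have hCB : C * B = B * C := by
    ext w; simp [hC, Module.End.mul_apply, map_add, hB2]
  have hC0 : C ≠ 0 := hC'
  -- the field generated by `C`
  set I : Ideal (Polynomial (ZMod p)) := RingHom.ker (Polynomial.aeval C : Polynomial (ZMod p) →ₐ[ZMod p] Module.End (ZMod p) W) with hI
  let E := Polynomial (ZMod p) ⧸ I
  let e : E →ₐ[ZMod p] Module.End (ZMod p) W := Ideal.Quotient.liftₐ I (Polynomial.aeval C) fun f hf => hf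
  have he : Function.Injective e := by
    rw [injective_iff_map_eq_zero]
    intro x
    induction x using Quotient.inductionOn' with | h f => ?_
    intro hf
    exact Ideal.Quotient.eq_zero_iff_mem.2 hf
  have hcomm : ∀ (x : E) (T : Module.End (ZMod p) W), C * T = T * C → e x * T = T * e x := by
    intro x T hT
    induction x using Quotient.inductionOn' with | h f => ?_
    show Polynomial.aeval C f * T = T * Polynomial.aeval C f
    induction f using Polynomial.induction_on' with
    | add f g hf hg => rw [map_add, add_mul, mul_add, hf, hg]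
    | monomial n r =>
      rw [Polynomial.aeval_monomial, mul_assoc, (Commute.pow_left (show Commute C T from hT) n).eq,
        ← mul_assoc, (Algebra.commutes r T), mul_assoc]
  have heinj : ∀ x : E, x ≠ 0 → ∀ w, e x w = 0 → w = 0 := by
    intro x hx w hw
    have hne : e x ≠ 0 := fun h => hx (he (by rw [h, map_zero]))
    rcases hirr' (LinearMap.ker (e x))
      (fun u hu => by
        rw [LinearMap.mem_ker] at hu ⊢
        rw [← Module.End.mul_apply, hcomm x A hCA, Module.End.mul_apply, hu, map_zero])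
      (fun u hu => by
        rw [LinearMap.mem_ker] at hu ⊢
        rw [← Module.End.mul_apply, hcomm x B hCB, Module.End.mul_apply, hu, map_zero]) with h | h
    · have : w ∈ LinearMap.ker (e x) := LinearMap.mem_ker.2 hw
      rwa [h, Submodule.mem_bot] at this
    · exact absurd (LinearMap.ker_eq_top.1 h) hne
  haveI : Finite (Module.End (ZMod p) W) := Finite.of_injective (fun f => (f : W → W)) DFunLike.coe_injective
  haveI : Finite E := Finite.of_injective e he
  haveI : Nontrivial E := ⟨⟨0, Ideal.Quotient.mk I Polynomial.X, fun h => hC0 (by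
    have := congrArg e h
    rw [map_zero] at this
    rw [this]
    exact (Polynomial.aeval_X C).symm)⟩⟩
  haveI : IsDomain E := by
    haveI : NoZeroDivisors E := ⟨fun {x y} hxy => by
      by_contra hcon
      push Not at hcon
      refine hcon.2 (he (LinearMap.ext fun w => ?_))
      have h := congrArg (fun z : E => e z w) hxy
      simp only [map_mul, map_zero, Module.End.mul_apply, LinearMap.zero_apply] at h
      rw [map_zero]
      exact heinj x hcon.1 _ h⟩
    exact NoZeroDivisors.to_isDomain E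
  haveI : I.IsMaximal := Ideal.Quotient.maximal_of_isField I (Finite.isDomain_to_isField E)
  letI : Field E := Ideal.Quotient.field I
  haveI : CharP E p := charP_of_injective_algebraMap (algebraMap (ZMod p) E).injective p
  set ℓ : E := Ideal.Quotient.mk I Polynomial.X with hℓ
  have heℓ : e ℓ = C := Polynomial.aeval_X C
  have hℓ0 : ℓ ≠ 0 := fun h => hC0 (by rw [← heℓ, h, map_zero])
  have hA0 : A ≠ 0 := fun h => hC0 (by rw [hC, h, zero_mul, mul_zero, add_zero])
  obtain ⟨w₀, hw₀⟩ : ∃ w, A w ≠ 0 := by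
    by_contra hcon
    push Not at hcon
    exact hA0 (LinearMap.ext hcon)
  set u := A w₀ with hu
  set v := B u with hv
  have hAu : A u = 0 := hA2 w₀
  have hBv : B v = 0 := hB2 u
  have hAv : A v = e ℓ u := by
    rw [heℓ, hC, LinearMap.add_apply, Module.End.mul_apply, Module.End.mul_apply, hAu, map_zero,
      add_zero]
  -- coordinates
  set u₁ := A v with hu₁
  have hAu₁ : A u₁ = 0 := hA2 v
  have hBu₁ : B u₁ = e ℓ v := by
    rw [hAv, ← Module.End.mul_apply B, ← hcomm _ B hCB, Module.End.mul_apply]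
  have hu₁0 : u₁ ≠ 0 := fun h => hw₀ (heinj ℓ hℓ0 u (by rw [← hAv]; exact h))
  let Φ₀ : (Fin 2 → E) →ₗ[ZMod p] W :=
    { toFun := fun x => e (x 0) u₁ + e (x 1) v
      map_add' := fun x y => by simp only [Pi.add_apply, map_add, LinearMap.add_apply]; abel
      map_smul' := fun c x => by simp [map_smul, smul_add] }
  have hΦ₀A : ∀ x, A (Φ₀ x) = e (x 1) u₁ := fun x => by
    show A (e (x 0) u₁ + e (x 1) v) = _
    rw [map_add, ← Module.End.mul_apply A, ← hcomm _ A hCA, Module.End.mul_apply, hAu₁, map_zero,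
      zero_add, ← Module.End.mul_apply A, ← hcomm _ A hCA, Module.End.mul_apply]
  have hΦ₀B : ∀ x, B (Φ₀ x) = e (x 0 * ℓ) v := fun x => by
    show B (e (x 0) u₁ + e (x 1) v) = _
    rw [map_add, ← Module.End.mul_apply B, ← hcomm _ B hCB, Module.End.mul_apply, hBu₁,
      ← Module.End.mul_apply B (e (x 1)), ← hcomm _ B hCB, Module.End.mul_apply, hBv, map_zero,
      add_zero, map_mul, Module.End.mul_apply]
  have hinj : Function.Injective Φ₀ := by
    rw [injective_iff_map_eq_zero]
    intro x hx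
    have h1 : x 1 = 0 := by
      by_contra h1
      have h := congrArg A hx
      rw [hΦ₀A, map_zero] at h
      exact hu₁0 (heinj _ h1 _ h)
    have h0 : x 0 = 0 := by
      by_contra h0
      have hx' : e (x 0) u₁ + e (x 1) v = 0 := hx
      rw [h1, map_zero, LinearMap.zero_apply, add_zero] at hx'
      exact hu₁0 (heinj _ h0 _ hx')
    funext i
    fin_cases i <;> assumption
  have hsurj : Function.Surjective Φ₀ := by
    rw [← LinearMap.range_eq_top]
    refine (hirr' (LinearMap.range Φ₀) ?_ ?_).resolve_left ?_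
    · rintro _ ⟨x, rfl⟩
      refine ⟨![x 1, 0], ?_⟩
      rw [hΦ₀A]
      show e (x 1) u₁ + e 0 v = _
      simp
    · rintro _ ⟨x, rfl⟩
      refine ⟨![0, x 0 * ℓ], ?_⟩
      rw [hΦ₀B]
      show e 0 u₁ + e (x 0 * ℓ) v = _
      simp
    · intro h
      have hmem : Φ₀ ![1, 0] ∈ LinearMap.range Φ₀ := ⟨_, rfl⟩
      rw [h, Submodule.mem_bot] at hmem
      have h' : e 1 u₁ + e 0 v = 0 := hmem
      simp at h'
      exact hu₁0 h'
  let Φ : (Fin 2 → E) ≃ₗ[ZMod p] W := LinearEquiv.ofBijective Φ₀ ⟨hinj, hsurj⟩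
  let ψ : SL(2, E) →* (W ≃ₗ[ZMod p] W) :=
    { toFun := fun M => (Φ.symm.trans ((SpecialLinearGroup.toLin' M).restrictScalars (ZMod p))).trans Φ
      map_one' := by
        refine LinearEquiv.ext fun w => ?_
        simp [SpecialLinearGroup.toLin'_apply]
      map_mul' := fun M N => by
        refine LinearEquiv.ext fun w => ?_
        simp [SpecialLinearGroup.toLin'_apply, Matrix.mulVec_mulVec] }
  have hψ : ∀ M x, ψ M (Φ x) = Φ ((M : Matrix (Fin 2) (Fin 2) E) *ᵥ x) := fun M x => by
    simp [ψ, SpecialLinearGroup.toLin'_apply]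
  have hΦ : ∀ x, Φ x = e (x 0) u₁ + e (x 1) v := fun x => rfl
  have hψa : ψ (tU 1) = a := by
    refine LinearEquiv.ext fun w => ?_
    obtain ⟨x, rfl⟩ := Φ.surjective w
    rw [hψ, hAe, show A (Φ x) = e (x 1) u₁ from hΦ₀A x, hΦ, hΦ]
    simp [tU_coe, Matrix.mulVec, dotProduct, Fin.sum_univ_two, map_add]
    abel
  have hψb : ψ (tL ℓ) = b := by
    refine LinearEquiv.ext fun w => ?_
    obtain ⟨x, rfl⟩ := Φ.surjective w
    rw [hψ, hBe, show B (Φ x) = e (x 0 * ℓ) v from hΦ₀B x, hΦ, hΦ]
    simp [tL_coe, Matrix.mulVec, dotProduct, Fin.sum_univ_two, map_add, mul_comm ℓ]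
    abel
  set H := (Subgroup.closure ({a, b} : Set (W ≃ₗ[ZMod p] W))).comap ψ with hH
  haveI : Finite H := Finite.of_injective
    (fun x : H => ((x : SL(2, E)) : Matrix (Fin 2) (Fin 2) E)) (fun x y h => Subtype.ext (Subtype.ext h))
  have haH : tU (1 : E) ∈ H := by
    rw [hH, Subgroup.mem_comap, hψa]; exact Subgroup.subset_closure (Or.inl rfl)
  have hbH : tL ℓ ∈ H := by
    rw [hH, Subgroup.mem_comap, hψb]; exact Subgroup.subset_closure (Or.inr rfl)
  obtain ⟨x, hxH, x10, x00, hx01⟩ := exists_torus (p := p) (F := E) h2 hl H haH hbH (by simpa [tL_coe] using hℓ0)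
  let ι := ZMod.castHom (dvd_refl p) E
  have hι : ι = algebraMap (ZMod p) E := RingHom.ext_zmod _ _
  have hl0 : l ≠ 0 := by
    rintro rfl
    have := hp.out.two_le
    rw [orderOf_zero] at hl
    omega
  have hιl : ι l ≠ 0 := (map_ne_zero ι).2 hl0
  have x00' : x 0 0 = ι l := x00
  have x11 : x 1 1 = (ι l)⁻¹ := by
    have hd := det_eq x
    rw [x10, x00', mul_zero, sub_zero] at hd
    exact eq_inv_of_mul_eq_one_right hd
  have hsmul : ∀ (c : ZMod p) (z : Fin 2 → E), Φ (ι c • z) = c • Φ z := fun c z => by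
    rw [← map_smul]
    congr 1
    funext i
    simp [hι, Algebra.smul_def]
  refine ⟨ψ x, hxH, ⟨(l * l).val, ?_⟩, fun w => ?_, ?_⟩
  · have hk : x * tU 1 * x⁻¹ = tU (1 : E) ^ (l * l).val := by
      rw [tU_pow, mul_inv_eq_iff_eq_mul, mul_one, ← map_natCast ι, ZMod.natCast_zmod_val, map_mul]
      refine ext_two ?_ ?_ ?_ ?_ <;> simp [Cfsg.Lib.Linear.Dickson.mul_apply', tU_coe, x00', x10, x11]
      ring
    rw [← hψa, ← map_inv ψ, ← map_mul, ← map_mul, hk, map_pow]
  · obtain ⟨z, rfl⟩ := Φ.surjective w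
    rw [hψ, hψ, ← hsmul, ← map_sub, ← map_add, map_add ι, map_inv₀ ι, ← x11, ← x00']
    refine (LinearEquiv.map_eq_zero_iff Φ).2 ?_
    funext i
    have hd := det_eq x
    rw [x10] at hd
    fin_cases i <;> simp [Matrix.mulVec, dotProduct, Fin.sum_univ_two, x10]
    · linear_combination (-(z 0)) * hd
    · linear_combination (-(z 1)) * hd
  · set c : E := if x 0 1 = 0 then 0 else -x 0 1 / (x 0 0 - x 1 1) with hc
    have hcx : x 0 0 * c + x 0 1 = x 1 1 * c := by
      by_cases h01 : x 0 1 = 0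
      · simp [hc, h01]
      · have hne : x 0 0 - x 1 1 ≠ 0 := sub_ne_zero.2 (hx01.resolve_left h01)
        rw [hc, if_neg h01]
        field_simp
        ring
    refine ⟨Φ ![1, 0], Φ ![c, 1], fun h => ?_, ?_, ?_, ?_, ?_⟩
    · exact one_ne_zero (congrFun (Φ.injective (h.trans (map_zero Φ).symm)) 0)
    · rw [← hψa, hψ]
      congr 1
      funext i; fin_cases i <;> simp [tU_coe, Matrix.mulVec, dotProduct, Fin.sum_univ_two]
    · rw [← hψa, hψ, ← map_add]
      congr 1
      funext i; fin_cases i <;> simp [tU_coe, Matrix.mulVec, dotProduct, Fin.sum_univ_two]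
    · rw [hψ, ← hsmul]
      congr 1
      funext i; fin_cases i <;> simp [Matrix.mulVec, dotProduct, Fin.sum_univ_two, x00', x10]
    · rw [hψ, ← hsmul, map_inv₀ ι, ← x11]
      congr 1
      funext i
      fin_cases i <;> simp [Matrix.mulVec, dotProduct, Fin.sum_univ_two, x10]
      linear_combination hcx

end Cfsg.Lib.Local.QuadTorus
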