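import Cfsg.Agent.Lib.Local.QuadTorus.Climb

/-!
# A failure of control gives the structure of Glauberman's theorem
-/

set_option autoImplicit false
set_option linter.style.haveILetI false

namespace Cfsg.Lib.Local.QuadTorus

open Subgroup Cfsg
open Cfsg.Lib.Local.GlaubermanZJ
open scoped commutatorElement

universe u

variable {p : ℕ} {G : Type u} [Group G] [Finite G] [hp : Fact p.Prime] (S : Sylow p G)

local notation "SS" => (S : Subgroup G)
local notation "YY" => centerThompsonAOf (S : Subgroup G)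
local notation "HH" => normalizer ((centerThompsonAOf (S : Subgroup G) : Subgroup G) : Set G)

omit hp in
theorem thompson_le_centralizer_zj : thompsonSubgroupAOf SS ≤ centralizer (YY : Set G) := fun _ ha =>
  mem_centralizer_iff.2 fun _ hy => (mem_centralizer_iff.1 hy.2 _ ha).symm

/-- A central element of order `p` modulo the core. -/
theorem exists_central_mod_core (hY : ¬ (YY).Normal) :
    ∃ t ∈ YY, t ∉ (YY).normalCore ∧ t ^ p ∈ (YY).normalCore ∧
      ∀ s ∈ SS, s * t * s⁻¹ * t⁻¹ ∈ (YY).normalCore := by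
  set D := (YY).normalCore with hD
  set q := QuotientGroup.mk' D with hq
  have hq1 : ∀ x : G, q x = 1 ↔ x ∈ D := fun x => QuotientGroup.eq_one_iff x
  set P := (SS).map q with hP
  set Yb := ((YY).map q).subgroupOf P with hYb
  haveI : Yb.Normal := ⟨fun y hy z => by
    obtain ⟨a, ha, hae⟩ := mem_subgroupOf.1 hy
    obtain ⟨s, hs, hse⟩ := z.2
    refine mem_subgroupOf.2 ⟨s * a * s⁻¹, (mem_normalizer_iff.1 (sylow_le_H S hs) a).1 ha, ?_⟩
    rw [map_mul, map_mul, map_inv, hae, hse]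
    rfl⟩
  have hne : Yb ≠ ⊥ := fun hb => hY (by
    have hle : YY ≤ D := fun y hy => by
      have hyP : q y ∈ P := mem_map_of_mem q (centerThompsonAOf_le _ hy)
      have h1 : (⟨q y, hyP⟩ : P) ∈ Yb := mem_subgroupOf.2 (mem_map_of_mem q hy)
      rw [hb, mem_bot] at h1
      exact (hq1 y).1 (congrArg Subtype.val h1)
    rw [show YY = D from le_antisymm hle (normalCore_le _)]
    exact normalCore_normal _)
  obtain ⟨z, hz, hz1⟩ := ((Yb ⊓ center P).bot_or_exists_ne_one).resolve_left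
    (Cfsg.Lib.PGroup.inf_center_ne_bot (S.isPGroup'.map q) hne)
  obtain ⟨i, hi⟩ := (S.isPGroup'.map q) z
  have hex : ∃ w : P, w ∈ Yb ⊓ center P ∧ w ≠ 1 ∧ w ^ p = 1 := by
    induction i generalizing z with
    | zero => exact absurd (by simpa using hi) hz1
    | succ i ih =>
      by_cases h : z ^ p = 1
      · exact ⟨z, hz, hz1, h⟩
      · exact ih (z ^ p) (pow_mem hz p) h (by rw [← pow_mul, ← pow_succ']; exact hi)
  obtain ⟨w, ⟨hwY, hwc⟩, hw1, hwp⟩ := hex
  obtain ⟨t, ht, hte⟩ := mem_subgroupOf.1 hwY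
  refine ⟨t, ht, fun htD => hw1 (Subtype.ext (by rw [← hte]; exact (hq1 t).2 htD)), (hq1 _).1 ?_,
    fun s hs => (hq1 _).1 ?_⟩
  · rw [map_pow, hte]; exact congrArg Subtype.val hwp
  · have h := congrArg Subtype.val (mem_center_iff.1 hwc ⟨q s, mem_map_of_mem q hs⟩)
    simp only [map_mul, map_inv, hte]
    rw [mul_inv_eq_one, mul_inv_eq_iff_eq_mul]
    exact h

/-- The elementary section spanned by the conjugates of `t`. -/
theorem exists_bp {t : G} (htp : t ^ p ∈ (YY).normalCore) {P : Subgroup G} (hPS : P ≤ SS)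
    (hDP : (YY).normalCore ≤ P) (htP : t ∈ P) (htc : ∀ s ∈ SS, s * t * s⁻¹ * t⁻¹ ∈ (YY).normalCore)
    {M : Subgroup G} (hM : M ≤ normalizer (WJ (YY).normalCore P : Set G)) :
    ∃ Bp : Subgroup G, (YY).normalCore ≤ Bp ∧ Bp ≤ P ∧ t ∈ Bp ∧ M ≤ normalizer (Bp : Set G) ∧
      (∀ x ∈ Bp, ∀ y ∈ Bp, x * y * x⁻¹ * y⁻¹ ∈ (YY).normalCore) ∧ (∀ x ∈ Bp, x ^ p ∈ (YY).normalCore) ∧
      ∀ X : Subgroup G, (YY).normalCore ≤ X → t ∈ X → M ≤ normalizer (X : Set G) → Bp ≤ X := by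
  set D := (YY).normalCore with hD
  set q := QuotientGroup.mk' D with hq
  have hq1 : ∀ x : G, q x = 1 ↔ x ∈ D := fun x => QuotientGroup.eq_one_iff x
  set gens := {y : G ⧸ D | ∃ m ∈ M, q m * q t * (q m)⁻¹ = y} with hgens
  set Z := centerThompsonAOf (P.map q) with hZ
  have hZc : ∀ {x y}, x ∈ Z → y ∈ Z → x * y = y * x := fun hx hy => (mem_centralizer_iff.1 hy.2 _ hx.1)
  let Ω : Subgroup (G ⧸ D) :=
    { carrier := {z | z ∈ Z ∧ z ^ p = 1}
      one_mem' := ⟨Z.one_mem, one_pow p⟩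
      mul_mem' := fun {x y} hx hy => ⟨mul_mem hx.1 hy.1, by
        rw [(show Commute x y from hZc hx.1 hy.1).mul_pow, hx.2, hy.2, mul_one]⟩
      inv_mem' := fun {x} hx => ⟨inv_mem hx.1, by rw [inv_pow, hx.2, inv_one]⟩ }
  have htZ : q t ∈ Ω := ⟨mem_centerThompsonAOf_of_commute (mem_map_of_mem q htP) (by
    rintro _ ⟨s, hs, rfl⟩
    have h := (hq1 _).2 (htc s (hPS hs))
    simp only [map_mul, map_inv] at h
    rw [mul_inv_eq_one, mul_inv_eq_iff_eq_mul] at h
    exact h.symm), by rw [← map_pow]; exact (hq1 _).2 htp⟩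
  have hgen : closure gens ≤ Ω := by
    rw [closure_le]
    rintro _ ⟨m, hm, rfl⟩
    have hmJ : q m ∈ normalizer (thompsonSubgroupAOf (P.map q) : Set (G ⧸ D)) := by
      refine mem_normalizer_fintype fun y hy => ?_
      obtain ⟨y, rfl⟩ := QuotientGroup.mk'_surjective D y
      rw [SetLike.mem_coe, ← map_inv, ← map_mul, ← map_mul]
      exact (mem_normalizer_iff.1 (hM hm) y).1 hy
    exact ⟨(mem_normalizer_iff.1 (mem_normalizer_center hmJ) _).1 htZ.1,
      by rw [conj_pow, htZ.2, mul_one, mul_inv_cancel]⟩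
  refine ⟨(closure gens).comap q, ?_, ?_, subset_closure ⟨1, M.one_mem, by simp⟩, ?_, ?_, ?_, ?_⟩
  · intro d hd
    rw [mem_comap, (hq1 d).2 hd]
    exact one_mem _
  · intro x hx
    have h : q x ∈ P.map q := centerThompsonAOf_le _ (hgen hx).1
    rw [← mem_comap, comap_map_eq, sup_eq_left.2 (by rw [QuotientGroup.ker_mk']; exact hDP)] at h
    exact h
  · intro m hm
    refine mem_normalizer_fintype fun x hx => ?_
    have h : (closure gens).map (MulAut.conj (q m)).toMonoidHom ≤ closure gens := by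
      rw [MonoidHom.map_closure, closure_le]
      rintro _ ⟨_, ⟨m', hm', rfl⟩, rfl⟩
      exact subset_closure ⟨m * m', mul_mem hm hm', by simp [mul_assoc]⟩
    show q (m * x * m⁻¹) ∈ closure gens
    rw [map_mul, map_mul, map_inv]
    exact h ⟨q x, hx, rfl⟩
  · intro x hx y hy
    refine (hq1 _).1 ?_
    simp only [map_mul, map_inv]
    rw [mul_inv_eq_one, mul_inv_eq_iff_eq_mul]
    exact hZc (hgen hx).1 (hgen hy).1
  · intro x hx
    refine (hq1 _).1 ?_
    rw [map_pow]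
    exact (hgen hx).2
  · intro X hDX htX hMX x hx
    have h : closure gens ≤ X.map q := by
      rw [closure_le]
      rintro _ ⟨m, hm, rfl⟩
      exact ⟨m * t * m⁻¹, (mem_normalizer_iff.1 (hMX hm) t).1 htX, by simp⟩
    have h' : x ∈ (X.map q).comap q := h hx
    rwa [comap_map_eq, sup_eq_left.2 (by rw [QuotientGroup.ker_mk']; exact hDX)] at h'

/-- A frame from a failure of control. -/
theorem exists_frame (h2 : p ≠ 2) (hC : Ctrl p SS) {A₁ : Subgroup G} (hF : Fail SS A₁) :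
    ∃ M Bp P', Frame SS (YY).normalCore M Bp P' p := by
  classical
  set D := (YY).normalCore with hD
  set q := QuotientGroup.mk' D with hq
  have hq1 : ∀ x : G, q x = 1 ↔ x ∈ D := fun x => QuotientGroup.eq_one_iff x
  have hDY : D ≤ YY := normalCore_le _
  have hY : ¬ (YY).Normal := fun hn => by
    obtain ⟨-, g, -, hng⟩ := hF
    exact hng ⟨g, by rw [normalizer_eq_top_iff.2 hn]; exact mem_top g, fun a _ => rfl⟩
  obtain ⟨t, htY, htD, htp, htc⟩ := exists_central_mod_core S hY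
  have htS : t ∈ SS := centerThompsonAOf_le _ htY
  obtain ⟨A₀, hA₀, hA₀max⟩ := Set.exists_max_image {A | Fail SS A} (fun A : Subgroup G => Nat.card A)
    (Set.toFinite _) ⟨A₁, hF⟩
  have hlarge : ∀ A ≤ SS, Nat.card A₀ < Nat.card A → ∀ g, (∀ a ∈ A, g * a * g⁻¹ ∈ SS) → Induced HH A g :=
    fun A hA hlt g hg => by_contra fun hn => absurd (hA₀max A ⟨hA, g, hg, hn⟩) (not_le.2 hlt)
  have h0 : Nat.card A₀ < Nat.card SS := by
    obtain ⟨hle, g, hg, hn⟩ := id hA₀
    refine lt_of_le_of_ne (card_le_of_le hle) fun he => hn ⟨g, ?_, fun a _ => rfl⟩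
    rw [eq_of_le_of_card_ge hle he.ge] at hg
    exact normalizer_le_normalizer_centerThompsonAOf _ (mem_normalizer_fintype hg)
  have hcontain : ∀ A, Fail SS A → Nat.card A = Nat.card A₀ → D ≤ A ∧ t ∈ A :=
    fun A hA hc => fail_contains S hC hA₀ h0 hlarge htS htc hA hc
  -- subgroups normalizing `Y ∩ Bp`
  have hT2 : ∀ Bp : Subgroup G, D ≤ Bp → t ∈ Bp →
      normalizer ((YY ⊓ Bp : Subgroup G) : Set G) ≠ ⊤ := fun Bp _ ht htop => by
    have hn : (YY ⊓ Bp).Normal := normalizer_eq_top_iff.1 htop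
    exact htD (normal_le_normalCore.2 inf_le_left ⟨htY, ht⟩)
  -- bad subgroups
  let Bad : Subgroup G → Prop := fun P => D ≤ P ∧ P ≤ SS ∧
    (∃ A ≤ P, Fail SS A ∧ Nat.card A = Nat.card A₀) ∧
    ∃ l ∈ normalizer (WJ D P : Set G), ∃ A ≤ P, (∀ a ∈ A, l * a * l⁻¹ ∈ P) ∧ ¬ Induced HH A l
  obtain ⟨R, g, hR, hRc, hgN, hgn⟩ : ∃ R : Subgroup G, ∃ g : G,
      Fail SS R ∧ Nat.card R = Nat.card A₀ ∧ g ∈ normalizer (R : Set G) ∧ ¬ Induced HH R g := by
    obtain ⟨hA₀S, g₀, hg₀, hng₀⟩ := id hA₀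
    obtain ⟨R, ⟨⟨xR, hxR⟩, hRS⟩, hmax⟩ := Set.exists_max_image
      {R : Subgroup G | (∃ x : G, A₀.map (MulAut.conj x).toMonoidHom = R) ∧ R ≤ SS}
      (fun R => Nat.card (SS ⊓ normalizer (R : Set G) : Subgroup G)) (Set.toFinite _)
      ⟨A₀, ⟨1, by ext y; simp⟩, hA₀S⟩
    have hRc : Nat.card R = Nat.card A₀ := by
      rw [← hxR, card_map_of_injective (MulAut.conj xR).injective]
    set N₀ := SS ⊓ normalizer (R : Set G) with hN₀
    obtain ⟨Q, hNQ, hQX, hQp, hQidx⟩ := exists_sylow_of_le (S.isPGroup'.to_le (inf_le_left : N₀ ≤ SS))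
      (inf_le_right : N₀ ≤ normalizer (R : Set G))
    have hQeq : N₀ = Q := by
      obtain ⟨y, hy⟩ := exists_conj_le_sylow' S hQp
      set R' := R.map (MulAut.conj y).toMonoidHom with hR'
      have hR'S : R' ≤ SS := by
        rintro _ ⟨r, hr, rfl⟩
        exact hy r (hNQ ⟨hRS hr, le_normalizer hr⟩)
      have hle : Q.map (MulAut.conj y).toMonoidHom ≤ SS ⊓ normalizer (R' : Set G) := by
        rintro _ ⟨a, ha, rfl⟩
        refine ⟨hy a ha, mem_normalizer_fintype ?_⟩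
        rintro _ ⟨r, hr, rfl⟩
        exact ⟨a * r * a⁻¹, (mem_normalizer_iff.1 (hQX ha) r).1 hr, by simp [mul_assoc]⟩
      have hle' := (card_le_of_le hle).trans (hmax R' ⟨⟨y * xR, by
        rw [hR', ← hxR, Subgroup.map_map]; congr 1; ext z; simp [mul_assoc]⟩, hR'S⟩)
      rw [card_map_of_injective (MulAut.conj y).injective] at hle'
      exact eq_of_le_of_card_ge hNQ hle'
    rw [← hQeq] at hQidx
    have hmove : ∀ B ≤ SS, ∀ x₀ : G, B.map (MulAut.conj x₀).toMonoidHom = R →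
        ∃ x : G, B.map (MulAut.conj x).toMonoidHom = R ∧ Induced HH (SS ⊓ normalizer (B : Set G)) x := by
      intro B hB x₀ hx₀
      set N₁ := SS ⊓ normalizer (B : Set G) with hN₁
      have hsub : N₁.map (MulAut.conj x₀).toMonoidHom ≤ normalizer (R : Set G) := by
        rintro _ ⟨a, ha, rfl⟩
        refine mem_normalizer_fintype fun r hr => ?_
        obtain ⟨b, hb, rfl⟩ := hx₀.ge hr
        exact hx₀.le ⟨a * b * a⁻¹, (mem_normalizer_iff.1 ha.2 b).1 hb, by simp [mul_assoc]⟩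
      obtain ⟨c, hc, hcN⟩ := exists_conj_le_in (inf_le_right : N₀ ≤ normalizer (R : Set G))
        (S.isPGroup'.to_le inf_le_left) hQidx hsub ((S.isPGroup'.to_le inf_le_left).map _)
      refine ⟨c * x₀, eq_of_le_of_card_ge ?_ (le_of_eq ?_), ?_⟩
      · rintro _ ⟨a, ha, rfl⟩
        have h1 := (mem_normalizer_iff.1 hc _).1 (hx₀.le ⟨a, ha, rfl⟩)
        simpa [mul_assoc] using h1
      · rw [← hx₀, card_map_of_injective (MulAut.conj x₀).injective,
          card_map_of_injective (MulAut.conj (c * x₀)).injective]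
      · have hBc : Nat.card B = Nat.card A₀ := by
          rw [← hRc, ← hx₀, card_map_of_injective (MulAut.conj x₀).injective]
        refine hlarge N₁ inf_le_left ?_ _ fun a ha => ?_
        · rw [← hBc]
          refine Set.Finite.card_lt_card (Set.toFinite _) (lt_inf_normalizer' S.isPGroup' (lt_of_le_of_ne hB ?_))
          intro he
          rw [he] at hBc
          omega
        · simpa [mul_assoc] using (show _ ∈ SS from (hcN _ ⟨a, ha, rfl⟩).1)
    obtain ⟨xA, hxA, hA'⟩ := hmove A₀ hA₀S xR hxR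
    set A₂ := A₀.map (MulAut.conj g₀).toMonoidHom with hA₂
    obtain ⟨x₂, hx₂, hA₂'⟩ := hmove A₂ (by rintro _ ⟨a, ha, rfl⟩; exact hg₀ a ha) (xA * g₀⁻¹)
      (by rw [hA₂, Subgroup.map_map, ← hxA]; congr 1; ext z; simp [mul_assoc])
    have hgN : x₂ * g₀ * xA⁻¹ ∈ normalizer (R : Set G) := mem_normalizer_fintype fun r hr => by
      obtain ⟨a, ha, rfl⟩ := hxA.ge hr
      exact hx₂.le ⟨g₀ * a * g₀⁻¹, ⟨a, ha, rfl⟩, by simp [mul_assoc]⟩
    have hgn : ¬ Induced HH R (x₂ * g₀ * xA⁻¹) := by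
      rintro ⟨h, hh, hhe⟩
      obtain ⟨h₁, hh₁, hh₁e⟩ := hA'
      obtain ⟨h₂, hh₂, hh₂e⟩ := hA₂'
      refine hng₀ ⟨h₂⁻¹ * h * h₁, mul_mem (mul_mem (inv_mem hh₂) hh) hh₁, fun a ha => ?_⟩
      have e1 := hh₁e a ⟨hA₀S ha, le_normalizer ha⟩
      have e2 := hhe _ (hxA.le ⟨a, ha, rfl⟩)
      have e3 := hh₂e _ ⟨hg₀ a ha, le_normalizer (⟨a, ha, rfl⟩ : g₀ * a * g₀⁻¹ ∈ A₂)⟩
      simp only [MulEquiv.coe_toMonoidHom, MulAut.conj_apply] at e2
      rw [show h₂⁻¹ * h * h₁ * a * (h₂⁻¹ * h * h₁)⁻¹ = h₂⁻¹ * (h * (h₁ * a * h₁⁻¹) * h⁻¹) * h₂ by group, e1, e2,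
        show x₂ * g₀ * xA⁻¹ * (xA * a * xA⁻¹) * (x₂ * g₀ * xA⁻¹)⁻¹ = x₂ * (g₀ * a * g₀⁻¹) * x₂⁻¹ by group, ← e3]
      group
    exact ⟨R, _, ⟨hRS, _, fun a ha => hRS ((mem_normalizer_iff.1 hgN a).1 ha), hgn⟩, hRc, hgN, hgn⟩
  obtain ⟨P, ⟨hDP, hPS, ⟨A, hAP, hA, hAc⟩, l, hl, A', hA'P, hlA', hln⟩, hPmax⟩ :=
    Set.exists_max_image {P | Bad P} (fun P : Subgroup G => Nat.card P) (Set.toFinite _)
      ⟨R, (hcontain R hR hRc).1, hR.1, ⟨R, le_rfl, hR, hRc⟩, g, normalizer_le_normalizer_WJ D R hgN, R, le_rfl,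
        fun a ha => (mem_normalizer_iff.1 hgN a).1 ha, hgn⟩
  by_cases hPeq : P = SS
  · -- `W(S)` is normal
    subst hPeq
    have hJtop : normalizer (WJ D SS : Set G) = ⊤ := by_contra fun hne =>
      hln (hC _ SS hne (le_normalizer.trans (normalizer_le_normalizer_WJ D SS)) S.isPGroup'
        (fun hd => S.not_dvd_index (hd.trans (relIndex_dvd_index_of_le
          (le_normalizer.trans (normalizer_le_normalizer_WJ D SS))))) thompson_le A' hA'P l hl hlA')
    obtain ⟨Bp, hDB, hBS, htB, hBn, hcomm, hpow, hmin⟩ := exists_bp S htp le_rfl hDP htS htc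
      (M := ⊤) (by rw [hJtop])
    haveI hBnorm : Bp.Normal := normalizer_eq_top_iff.1 (top_le_iff.1 hBn)
    refine ⟨⊤, Bp, SS, ⟨hDB, hBS, le_rfl, le_top, by rw [relIndex_top_right]; exact S.not_dvd_index, hBn,
      hcomm, hpow, fun h => hT2 Bp hDB htB (top_le_iff.1 h),
      fun K hSK hK k hk B hB hmap => hC K SS hK.ne hSK S.isPGroup'
        (fun hd => S.not_dvd_index (hd.trans (relIndex_dvd_index_of_le hSK))) thompson_le B hB k hk hmap, ?_⟩⟩
    intro hU
    set U := closure (quadMod p D Bp ∩ ((SS : Subgroup G) : Set G)) with hUdef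
    have hUn : U.Normal := normalizer_eq_top_iff.1 (top_le_iff.1 hU)
    have hUS : U ≤ SS := (closure_le _).2 Set.inter_subset_right
    obtain ⟨A₃, hA₃, hBA₃⟩ : ∃ A₃, IsMaxAbIn SS A₃ ∧ ¬ Bp ≤ A₃ := by
      by_contra hcon
      push Not at hcon
      refine hT2 Bp hDB htB ?_
      have hBY : Bp ≤ YY := fun b hb => by
        obtain ⟨A₀', hA₀'⟩ := exists_isMaxAbIn SS
        refine ⟨le_thompson_of_isMaxAbIn hA₀' (hcon _ hA₀' hb), mem_centralizer_iff.2 fun y hy => ?_⟩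
        rw [SetLike.mem_coe, thompsonSubgroupAOf_eq] at hy
        have hle : sSup {A | IsMaxAbIn SS A} ≤ centralizer ({b} : Set G) := sSup_le fun A hA a ha =>
          mem_centralizer_singleton_iff.2
            (congrArg Subtype.val (hA.2.1.is_comm.comm ⟨a, ha⟩ ⟨b, hcon A hA hb⟩))
        exact mem_centralizer_singleton_iff.1 (hle hy)
      rw [inf_eq_right.2 hBY]
      exact normalizer_eq_top_iff.2 hBnorm
    have hBB : ⁅Bp, Bp⁆ ≤ A₃ := commutator_le.2 fun x hx y hy => by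
      rw [commutatorElement_def]
      exact centerThompsonAOf_le_of_isMaxAbIn hA₃ (hDY (hcomm x hx y hy))
    obtain ⟨A₄, hA₄, -, hBA₄, hBN⟩ :=
      exists_normalized_maxAbIn h2 S.isPGroup' hBS ⟨A₃, hA₃, hBB, hBA₃⟩
    have hA₄U : A₄ ≤ U := fun a ha => subset_closure ⟨⟨by
      obtain ⟨i, hi⟩ := S.isPGroup' ⟨a, hA₄.1 ha⟩
      exact ⟨i, congrArg Subtype.val hi⟩, fun w hw => by
      have hc : a * w * a⁻¹ * w⁻¹ ∈ A₄ := by
        rw [show a * w * a⁻¹ * w⁻¹ = a * (w * a⁻¹ * w⁻¹) by group]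
        exact mul_mem ha ((mem_normalizer_iff.1 (hBN hw) _).1 (inv_mem ha))
      have hcomm' : a * (a * w * a⁻¹ * w⁻¹) = (a * w * a⁻¹ * w⁻¹) * a :=
        congrArg Subtype.val (hA₄.2.1.is_comm.comm ⟨a, ha⟩ ⟨_, hc⟩)
      rw [hcomm', mul_inv_cancel_right, mul_inv_cancel]
      exact one_mem _⟩, hA₄.1 ha⟩
    have hYU : YY ≤ centerThompsonAOf U := fun y hy => by
      refine ⟨le_thompson_of_isMaxAbIn (isMaxAbIn_of_between hA₄ hA₄U hUS)
        (centerThompsonAOf_le_of_isMaxAbIn hA₄ hy), mem_centralizer_iff.2 fun z hz => ?_⟩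
      refine mem_centralizer_iff.1 hy.2 z ?_
      rw [SetLike.mem_coe, thompsonSubgroupAOf_eq U] at hz
      have hle : sSup {C | IsMaxAbIn U C} ≤ thompsonSubgroupAOf SS := sSup_le fun C hC =>
        le_thompson_of_isMaxAbIn ⟨hC.1.trans hUS, hC.2.1, fun E hE hEc =>
          (hA₄.2.2 E hE hEc).trans (hC.2.2 A₄ hA₄U hA₄.2.1)⟩
      exact hle hz
    refine hBA₄ ((hmin (centerThompsonAOf U) (hDY.trans hYU) (hYU htY) ?_).trans
      (centerThompsonAOf_le_of_isMaxAbIn (isMaxAbIn_of_between hA₄ hA₄U hUS)))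
    intro x _
    exact normalizer_le_normalizer_centerThompsonAOf U (by rw [normalizer_eq_top_iff.2 hUn]; exact mem_top x)
  -- the general case
  obtain ⟨Q, hNQ, hQM, hQp, hQidx⟩ := exists_sylow_of_le
    (S.isPGroup'.to_le (inf_le_left : SS ⊓ normalizer (P : Set G) ≤ SS))
    (inf_le_right.trans (normalizer_le_normalizer_WJ D P))
  obtain ⟨x, hx⟩ := exists_conj_le_sylow' S hQp
  have hltP : P < SS ⊓ normalizer (P : Set G) := lt_inf_normalizer' S.isPGroup' (lt_of_le_of_ne hPS hPeq)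
  have hcardP : Nat.card A₀ < Nat.card (SS ⊓ normalizer (P : Set G) : Subgroup G) :=
    lt_of_le_of_lt (hAc.ge.trans (card_le_of_le hAP)) (Set.Finite.card_lt_card (Set.toFinite _) hltP)
  obtain ⟨h, hh, hhe⟩ := hlarge _ inf_le_left hcardP x fun a ha => hx a (hNQ ha)
  have hPN : P ≤ SS ⊓ normalizer (P : Set G) := le_inf hPS le_normalizer
  set c := (MulAut.conj x).toMonoidHom with hc
  set P₁ := P.map c with hP₁
  set P' := Q.map c with hP'
  set M := normalizer (WJ D P₁ : Set G) with hMdef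
  have hMeq : M = (normalizer (WJ D P : Set G)).map c := by
    rw [hMdef, hP₁, hc, ← map_WJ]
    exact (map_equiv_normalizer_eq _ _).symm
  have hP₁P' : P₁ ≤ P' := map_mono (hPN.trans hNQ)
  have hP'S : P' ≤ SS := by rintro _ ⟨a, ha, rfl⟩; exact hx a ha
  have hP'M : P' ≤ M := hMeq ▸ map_mono hQM
  have hidx : ¬ p ∣ P'.relIndex M := by
    rw [hMeq, hP', relIndex_map_map_of_injective _ _ (MulAut.conj x).injective]
    exact hQidx
  have hDP₁ : D ≤ P₁ := fun d hd =>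
    ⟨x⁻¹ * d * x, hDP (by simpa using (normalCore_normal _).conj_mem d hd x⁻¹), by simp [hc, mul_assoc]⟩
  have hDP' : D ≤ P' := hDP₁.trans hP₁P'
  have hA₁' : Fail SS (A.map c) := by
    obtain ⟨hAS, g, hg, hgn⟩ := hA
    refine ⟨(map_mono hAP).trans (hP₁P'.trans hP'S), g * h⁻¹, ?_, ?_⟩
    · rintro _ ⟨a, ha, rfl⟩
      have e1 := hhe a (hPN (hAP ha))
      simp only [hc, MulEquiv.coe_toMonoidHom, MulAut.conj_apply, ← e1]
      convert hg a ha using 1
      group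
    · rintro ⟨k, hk, hke⟩
      refine hgn ⟨k * h, mul_mem hk hh, fun a ha => ?_⟩
      have e1 := hhe a (hPN (hAP ha))
      have e2 := hke _ ⟨a, ha, rfl⟩
      simp only [hc, MulEquiv.coe_toMonoidHom, MulAut.conj_apply, ← e1] at e2
      rw [show k * h * a * (k * h)⁻¹ = k * (h * a * h⁻¹) * k⁻¹ by group, e2]
      group
  have hA₁c : Nat.card (A.map c) = Nat.card A₀ := by
    rw [hc, card_map_of_injective (MulAut.conj x).injective, hAc]
  have htP₁ : t ∈ P₁ := map_mono hAP (hcontain _ hA₁' hA₁c).2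
  set A'' := A'.map c with hA''
  have hlM : x * l * x⁻¹ ∈ M := hMeq.ge ⟨l, hl, rfl⟩
  have hmap'' : ∀ a ∈ A'', x * l * x⁻¹ * a * (x * l * x⁻¹)⁻¹ ∈ P' := by
    rintro _ ⟨a, ha, rfl⟩
    exact ⟨l * a * l⁻¹, hNQ (hPN (hlA' a ha)), by simp [hc, mul_assoc]⟩
  have hn'' : ¬ Induced HH A'' (x * l * x⁻¹) := by
    rintro ⟨k, hk, hke⟩
    refine hln ⟨h⁻¹ * k * h, mul_mem (mul_mem (inv_mem hh) hk) hh, fun a ha => ?_⟩
    have e1 := hhe a (hPN (hA'P ha))
    have e2 := hke _ ⟨a, ha, rfl⟩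
    have e3 := hhe _ (hPN (hlA' a ha))
    simp only [hc, MulEquiv.coe_toMonoidHom, MulAut.conj_apply] at e2
    rw [show h⁻¹ * k * h * a * (h⁻¹ * k * h)⁻¹ = h⁻¹ * (k * (h * a * h⁻¹) * k⁻¹) * h by group, e1, e2,
      show x * l * x⁻¹ * (x * a * x⁻¹) * (x * l * x⁻¹)⁻¹ = x * (l * a * l⁻¹) * x⁻¹ by group, ← e3]
    group
  -- a minimal overgroup with a map that is not induced
  obtain ⟨Mm, ⟨hPMm, hMmM, k₀, hk₀, B₀, hB₀, hkB₀, hk₀n⟩, hMmin⟩ := Set.exists_min_image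
    {K : Subgroup G | P' ≤ K ∧ K ≤ M ∧ ∃ k ∈ K, ∃ B ≤ P', (∀ a ∈ B, k * a * k⁻¹ ∈ P') ∧ ¬ Induced HH B k}
    (fun K => Nat.card K) (Set.toFinite _)
    ⟨M, hP'M, le_rfl, _, hlM, A'', (map_mono hA'P).trans hP₁P', hmap'', hn''⟩
  have hsub : ∀ K : Subgroup G, P' ≤ K → K < Mm → ∀ k ∈ K, ∀ B ≤ P', (∀ a ∈ B, k * a * k⁻¹ ∈ P') →
      Induced HH B k := fun K hPK hK k hk B hB hmap => by_contra fun hn =>
    absurd (hMmin K ⟨hPK, hK.le.trans hMmM, k, hk, B, hB, hmap, hn⟩)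
      (not_le.2 (Set.Finite.card_lt_card (Set.toFinite _) hK))
  have hidx' : ¬ p ∣ P'.relIndex Mm := fun hd =>
    hidx (hd.trans (Dvd.intro _ (relIndex_mul_relIndex P' Mm M hPMm hMmM)))
  obtain ⟨Bp, hDB, hBP₁, htB, hBn, hcomm, hpow, hmin⟩ :=
    exists_bp S htp (hP₁P'.trans hP'S) hDP₁ htP₁ htc hMmM
  have hBP' : Bp ≤ P' := hBP₁.trans hP₁P'
  have hnotT : ¬ Mm ≤ normalizer ((YY ⊓ Bp : Subgroup G) : Set G) := by
    intro hle
    set K := normalizer ((YY ⊓ Bp : Subgroup G) : Set G) with hK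
    have hJK : thompsonSubgroupAOf SS ≤ K := fun a ha => mem_normalizer_fintype fun y hy => by
      rw [show a * y * a⁻¹ = y by
        rw [← mem_centralizer_iff.1 (thompson_le_centralizer_zj S ha) y hy.1, mul_inv_cancel_right]]
      exact hy
    obtain ⟨T, hT, hTK, hTp, hTidx⟩ := exists_sylow_of_le
      (S.isPGroup'.to_le (sup_le hP'S thompson_le : P' ⊔ thompsonSubgroupAOf SS ≤ SS))
      (sup_le (hPMm.trans hle) hJK)
    exact hk₀n (hC K T (hT2 Bp hDB htB) hTK hTp hTidx (le_sup_right.trans hT) B₀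
      (hB₀.trans (le_sup_left.trans hT)) k₀ (hle hk₀) fun a ha => le_sup_left.trans hT (hkB₀ a ha))
  refine ⟨Mm, Bp, P', ⟨hDB, hBP', hP'S, hPMm, hidx', hBn, hcomm, hpow, hnotT, hsub, ?_⟩⟩
  -- the centralizer of the section
  set B := Bp.map q with hB
  have hqP' : (P'.map q).comap q = P' := by
    rw [comap_map_eq, sup_eq_left.2 (by rw [QuotientGroup.ker_mk']; exact hDP')]
  have hMmB : ∀ m ∈ Mm, ∀ b ∈ B, q m * b * (q m)⁻¹ ∈ B := by
    rintro m hm _ ⟨b, hb, rfl⟩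
    exact ⟨m * b * m⁻¹, (mem_normalizer_iff.1 (hBn hm) b).1 hb, by simp⟩
  obtain ⟨A₃, hA₃, hBA₃⟩ : ∃ A₃, IsMaxAbIn (P'.map q) A₃ ∧ ¬ B ≤ A₃ := by
    by_contra hcon
    push Not at hcon
    set Cb := Mm ⊓ (centralizer (B : Set (G ⧸ D))).comap q with hCb
    have hJC : WJ D P' ≤ P' ⊓ Cb := by
      intro y hy
      have hyP : y ∈ P' := hqP'.le (mem_comap.2 (thompson_le (mem_comap.1 hy)))
      refine ⟨hyP, hPMm hyP, ?_⟩
      have hle : thompsonSubgroupAOf (P'.map q) ≤ centralizer (B : Set (G ⧸ D)) := by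
        rw [thompsonSubgroupAOf_eq, sSup_le_iff]
        exact fun A hA a ha => mem_centralizer_iff.2 fun b hb =>
          congrArg Subtype.val (hA.2.1.is_comm.comm ⟨b, hcon A hA hb⟩ ⟨a, ha⟩)
      exact hle hy
    set C₁ := P' ⊓ Cb with hC₁
    have hWC : WJ D C₁ = WJ D P' := by
      rw [WJ, WJ]
      congr 1
      refine thompson_eq_of_between (fun y hy => ?_) (map_mono inf_le_left)
      obtain ⟨y, rfl⟩ := QuotientGroup.mk'_surjective D y
      exact mem_map_of_mem q (hJC hy)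
    have hCn : ∀ m ∈ Mm, ∀ y ∈ Cb, m * y * m⁻¹ ∈ Cb := fun m hm y hy => ⟨Mm.mul_mem (Mm.mul_mem hm hy.1) (Mm.inv_mem hm),
      mem_centralizer_iff.2 fun b hb => by
        have h1 := mem_centralizer_iff.1 hy.2 _ (hMmB m⁻¹ (inv_mem hm) b hb)
        rw [map_inv, inv_inv] at h1
        rw [map_mul, map_mul, map_inv]
        calc b * (q m * q y * (q m)⁻¹) = q m * ((q m)⁻¹ * b * q m * q y) * (q m)⁻¹ := by group
          _ = q m * (q y * ((q m)⁻¹ * b * q m)) * (q m)⁻¹ := by rw [h1]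
          _ = _ := by group⟩
    have hCidx : ¬ p ∣ C₁.relIndex Cb := by
      rw [inf_relIndex_right]
      intro hd
      let SM : Sylow p Mm := ((S.isPGroup'.to_le hP'S).of_equiv (subgroupOfEquivOfLe hPMm).symm).toSylow hidx'
      haveI : (Cb.subgroupOf Mm).Normal :=
        ⟨fun y hy m => mem_subgroupOf.2 (hCn m m.2 _ (mem_subgroupOf.1 hy))⟩
      refine Cfsg.Lib.Solv.not_dvd_relIndex_of_isSubnormal SM
        (Subgroup.Normal.isSubnormal (inferInstance : (Cb.subgroupOf Mm).Normal)) ?_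
      show p ∣ (P'.subgroupOf Mm).relIndex (Cb.subgroupOf Mm)
      rw [relIndex_subgroupOf inf_le_left]
      exact hd
    set K := Mm ⊓ normalizer (C₁ : Set G) with hK
    rcases eq_or_lt_of_le (inf_le_left : K ≤ Mm) with heq | hlt
    · refine hk₀n (by_contra fun hn => absurd (hPmax P' ⟨hDP', hP'S, ⟨A.map c, (map_mono hAP).trans hP₁P',
        hA₁', hA₁c⟩, k₀, ?_, B₀, hB₀, hkB₀, hn⟩) (not_le.2 ?_))
      · rw [← hWC]
        exact normalizer_le_normalizer_WJ D C₁ (heq.ge hk₀).2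
      · rw [hP', hc, card_map_of_injective (MulAut.conj x).injective]
        exact lt_of_lt_of_le (Set.Finite.card_lt_card (Set.toFinite _) hltP) (card_le_of_le hNQ)
    · refine hnotT fun m hm => ?_
      have hPK : P' ≤ K := le_inf hPMm fun y hy => mem_normalizer_fintype fun z hz =>
        ⟨P'.mul_mem (P'.mul_mem hy hz.1) (P'.inv_mem hy), hCn y (hPMm hy) z hz.2⟩
      obtain ⟨y, hy, hym⟩ := frattini_elem' (S.isPGroup'.to_le (inf_le_left.trans hP'S)) (inf_le_right : C₁ ≤ Cb)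
        hCidx (mem_normalizer_fintype fun z hz => hCn m hm z hz : m ∈ normalizer (Cb : Set G))
      have hymM : y * m ∈ Mm := mul_mem hy.1 hm
      have h1 : ∀ z ∈ K, z ∈ normalizer ((YY ⊓ Bp : Subgroup G) : Set G) := fun z hz => by
        refine mem_normalizer_fintype fun w hw => ?_
        have hzB : ∀ w ∈ YY ⊓ Bp, z * w * z⁻¹ ∈ P' := fun w hw =>
          hBP' ((mem_normalizer_iff.1 (hBn hz.1) w).1 hw.2)
        obtain ⟨k, hk, hke⟩ := hsub K hPK hlt z hz (YY ⊓ Bp) (inf_le_right.trans hBP') hzB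
        exact ⟨hke w hw ▸ (mem_normalizer_iff.1 hk w).1 hw.1, (mem_normalizer_iff.1 (hBn hz.1) w).1 hw.2⟩
      have h2' : y ∈ normalizer ((YY ⊓ Bp : Subgroup G) : Set G) := mem_normalizer_fintype fun w hw => by
        have h3 : q (y * w * y⁻¹ * w⁻¹) = 1 := by
          simp only [map_mul, map_inv]
          rw [mul_inv_eq_one, mul_inv_eq_iff_eq_mul]
          exact (mem_centralizer_iff.1 hy.2 _ (mem_map_of_mem q hw.2)).symm
        have h4 : y * w * y⁻¹ * w⁻¹ ∈ YY ⊓ Bp := ⟨hDY ((hq1 _).1 h3), hDB ((hq1 _).1 h3)⟩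
        simpa using mul_mem h4 hw
      simpa using mul_mem (inv_mem h2') (h1 _ ⟨hymM, hym⟩)
  intro hU
  set U := closure (quadMod p D Bp ∩ (P' : Set G)) with hUdef
  set N := Mm.map q with hN
  have hBN : B ≤ N := map_mono (hBP'.trans hPMm)
  have hP'N : P'.map q ≤ N := map_mono hPMm
  haveI : (B.subgroupOf N).Normal := ⟨fun b hb z => by
    obtain ⟨m, hm, hme⟩ := z.2
    refine mem_subgroupOf.2 ?_
    simp only [Subgroup.coe_mul, Subgroup.coe_inv, ← hme]
    exact hMmB m hm _ (mem_subgroupOf.1 hb)⟩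
  have hBc : ∀ a ∈ B, ∀ b ∈ B, a * b = b * a := by
    rintro _ ⟨a, ha, rfl⟩ _ ⟨b, hb, rfl⟩
    have h := (hq1 _).2 (hcomm a ha b hb)
    simp only [map_mul, map_inv] at h
    rw [mul_inv_eq_one, mul_inv_eq_iff_eq_mul] at h
    exact h
  obtain ⟨A₅, hA₅, -, hBA₅, hBN₅⟩ := exists_normalized_maxAbIn h2
    ((S.isPGroup'.to_le hP'S).map q |>.of_equiv (subgroupOfEquivOfLe hP'N).symm)
    (show B.subgroupOf N ≤ (P'.map q).subgroupOf N from comap_mono (map_mono hBP'))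
    ⟨A₃.subgroupOf N, isMaxAbIn_subgroupOf hP'N hA₃, commutator_le.2 fun a ha b hb => by
      rw [show ⁅a, b⁆ = 1 from commutatorElement_eq_one_iff_mul_comm.2
        (Subtype.ext (hBc _ (mem_subgroupOf.1 ha) _ (mem_subgroupOf.1 hb)))]
      exact one_mem _,
      fun h => hBA₃ fun b hb => mem_subgroupOf.1 (h (mem_subgroupOf.2 hb : (⟨b, hBN hb⟩ : N) ∈ B.subgroupOf N))⟩
  set A₄ := A₅.map N.subtype with hA₄def
  have hA₄ : IsMaxAbIn (P'.map q) A₄ := isMaxAbIn_map_subtype hP'N hA₅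
  have hBA₄ : ¬ B ≤ A₄ := fun h => hBA₅ fun b hb => by
    obtain ⟨a, ha, hae⟩ := h (mem_subgroupOf.1 hb)
    rwa [← Subtype.ext hae]
  have hBN₄ : ∀ b ∈ B, ∀ a ∈ A₄, b * a * b⁻¹ ∈ A₄ := by
    rintro b hb _ ⟨a, ha, rfl⟩
    exact ⟨_, (mem_normalizer_iff.1 (hBN₅ (mem_subgroupOf.2 hb : (⟨b, hBN hb⟩ : N) ∈ B.subgroupOf N)) a).1 ha,
      by simp⟩
  set U' := U.map q with hU'
  have hU'P : U' ≤ P'.map q := map_mono ((closure_le _).2 Set.inter_subset_right)
  have hAU : A₄ ≤ U' := fun a ha => by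
    obtain ⟨y, hy, rfl⟩ := hA₄.1 ha
    refine mem_map_of_mem q (subset_closure ⟨⟨?_, fun w hw => ?_⟩, hy⟩)
    · obtain ⟨i, hi⟩ := S.isPGroup' ⟨y, hP'S hy⟩
      exact ⟨i, congrArg Subtype.val hi⟩
    · refine (hq1 _).1 ?_
      simp only [map_mul, map_inv]
      have hc' : q y * q w * (q y)⁻¹ * (q w)⁻¹ ∈ A₄ := by
        rw [show q y * q w * (q y)⁻¹ * (q w)⁻¹ = q y * (q w * (q y)⁻¹ * (q w)⁻¹) by group]
        exact mul_mem ha (hBN₄ _ (mem_map_of_mem q hw) _ (inv_mem ha))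
      have h5 : q y * (q y * q w * (q y)⁻¹ * (q w)⁻¹) = q y * q w * (q y)⁻¹ * (q w)⁻¹ * q y :=
        congrArg Subtype.val (hA₄.2.1.is_comm.comm ⟨q y, ha⟩ ⟨_, hc'⟩)
      rw [h5, mul_inv_cancel_right, mul_inv_cancel]
  have hqtP : q t ∈ P'.map q := mem_map_of_mem q (hBP' htB)
  have htcomm : ∀ y ∈ P'.map q, Commute (q t) y := by
    rintro _ ⟨s, hs, rfl⟩
    have h := (hq1 _).2 (htc s (hP'S hs))
    simp only [map_mul, map_inv] at h
    rw [mul_inv_eq_one, mul_inv_eq_iff_eq_mul] at h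
    exact h.symm
  have htZ : q t ∈ centerThompsonAOf U' := mem_centerThompsonAOf_of_commute
    (hAU (hA₄.mem_of_commute hqtP fun a ha => htcomm a (hA₄.1 ha))) fun y hy => htcomm y (hU'P hy)
  refine hBA₄ (le_trans ?_ (centerThompsonAOf_le_of_isMaxAbIn (isMaxAbIn_of_between hA₄ hAU hU'P)))
  rintro _ ⟨b, hb, rfl⟩
  refine hmin ((centerThompsonAOf U').comap q) (fun d hd => ?_) htZ (fun m hm => ?_) hb
  · rw [mem_comap, (hq1 d).2 hd]; exact one_mem _
  · refine mem_normalizer_fintype fun z hz => ?_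
    rw [SetLike.mem_coe, mem_comap] at hz ⊢
    rw [map_mul, map_mul, map_inv]
    exact (mem_normalizer_iff.1 (normalizer_le_normalizer_centerThompsonAOf U'
      (le_normalizer_map q (mem_map_of_mem q (hU hm)))) _).1 hz

/-- `Fail` produces the conclusion. -/
theorem concl_of_fail (h2 : p ≠ 2) : ∀ (n : ℕ) (K : Type u) [Group K] [Finite K], Nat.card K = n →
    ∀ (T : Sylow p K) (A : Subgroup K), Fail (T : Subgroup K) A → Concl p (T : Subgroup K) := by
  intro n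
  induction n using Nat.strong_induction_on with
  | _ n ih =>
  intro K _ _ hn T A hA
  by_contra hcon
  have hC : Ctrl p (T : Subgroup K) := by
    intro M R hM hRM hRp hRidx hJR B hB k hk hkB
    by_contra hnot
    let T' : Sylow p M := (hRp.of_equiv (subgroupOfEquivOfLe hRM).symm).toSylow hRidx
    have hmapT : (T' : Subgroup M).map M.subtype = R := map_subgroupOf_eq_of_le hRM
    have hY' : (centerThompsonAOf (T' : Subgroup M)).map M.subtype = centerThompsonAOf (T : Subgroup K) := by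
      rw [map_centerThompsonAOf' M.subtype _ M.subtype_injective.injOn, hmapT,
        centerThompsonAOf_eq_of_le T hRp hJR]
    set H' := normalizer (centerThompsonAOf (T' : Subgroup M) : Set M) with hH'
    have hH : H'.map M.subtype ≤ normalizer (centerThompsonAOf (T : Subgroup K) : Set K) := by
      rw [← hY']; exact le_normalizer_map _
    have hfail : Fail (T' : Subgroup M) (B.subgroupOf M) := by
      refine ⟨comap_mono hB, ⟨k, hk⟩, fun a ha => mem_subgroupOf.2 (hkB _ (mem_subgroupOf.1 ha)), ?_⟩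
      rintro ⟨h, hh, hhe⟩
      exact hnot ⟨h, hH ⟨h, hh, rfl⟩, fun a ha =>
        congrArg Subtype.val (hhe ⟨a, hRM (hB ha)⟩ (mem_subgroupOf.2 ha))⟩
    have hlt : Nat.card M < n := by
      rw [← hn]
      have h1 : (⊤ : Subgroup K) ≠ M := Ne.symm hM
      calc Nat.card M < Nat.card (⊤ : Subgroup K) :=
            Set.Finite.card_lt_card (Set.toFinite _) (show M < ⊤ from lt_top_iff_ne_top.2 hM)
        _ = Nat.card K := card_top
    obtain ⟨hinv, c, hc, hco, h, hh, j, hj, hje⟩ := ih _ hlt M rfl T' (B.subgroupOf M) hfail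
    refine hcon ⟨Cfsg.Lib.FusionSys.involves_of_injective
      (f := (M.subtype.comp H'.subtype).codRestrict _ fun y => hH ⟨y, y.2, rfl⟩)
      (fun a b hab => Subtype.ext (Subtype.ext (congrArg
        (fun z : ↥(normalizer (centerThompsonAOf (T : Subgroup K) : Set K)) => (z : K)) hab))) hinv,
      (c : K), hY' ▸ mem_map_of_mem M.subtype hc, by rwa [orderOf_coe], (h : K), hH ⟨h, hh, rfl⟩, j, hj,
      by simpa using congrArg Subtype.val hje⟩
  obtain ⟨M, Bp, P', hF⟩ := exists_frame T h2 hC hA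
  exact hcon (Frame.concl h2 T (normalCore_le _) hF)

end Cfsg.Lib.Local.QuadTorus
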