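import Cfsg.Agent.Lib.Local.QuadTorus.Plane
import Cfsg.Agent.Lib.Linear.SympConj

/-!
# Choosing the section for two quadratic automorphisms
-/

set_option autoImplicit false
set_option linter.style.haveILetI false
set_option linter.unusedSectionVars false

namespace Cfsg.Lib.Local.QuadTorus

variable {p : ℕ} [hp : Fact p.Prime] {V : Type*} [AddCommGroup V] [Module (ZMod p) V] [Finite V]

/-- The automorphisms stabilizing two submodules. -/
def stab₂ (U W : Submodule (ZMod p) V) : Subgroup (V ≃ₗ[ZMod p] V) where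
  carrier := {g | U.map (g : V →ₗ[ZMod p] V) = U ∧ W.map (g : V →ₗ[ZMod p] V) = W}
  one_mem' := ⟨Submodule.map_id U, Submodule.map_id W⟩
  mul_mem' := fun {g h} hg hh => by
    have e : ((g * h : V ≃ₗ[ZMod p] V) : V →ₗ[ZMod p] V) = (g : V →ₗ[ZMod p] V) ∘ₗ (h : V →ₗ[ZMod p] V) := rfl
    show _ = _ ∧ _ = _
    rw [e, Submodule.map_comp, Submodule.map_comp, hh.1, hh.2]
    exact hg
  inv_mem' := fun {g} hg => by
    have key : ∀ X : Submodule (ZMod p) V, X.map (g : V →ₗ[ZMod p] V) = X →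
        X.map ((g⁻¹ : V ≃ₗ[ZMod p] V) : V →ₗ[ZMod p] V) = X := fun X hX => by
      conv_lhs => rw [← hX]
      rw [← Submodule.map_comp,
        show ((g⁻¹ : V ≃ₗ[ZMod p] V) : V →ₗ[ZMod p] V) ∘ₗ (g : V →ₗ[ZMod p] V) = LinearMap.id from
          LinearMap.ext fun v => g.symm_apply_apply v, Submodule.map_id]
    exact ⟨key U hg.1, key W hg.2⟩

theorem map_eq_of_forall_mem {g : V ≃ₗ[ZMod p] V} {U : Submodule (ZMod p) V} (h : ∀ u ∈ U, g u ∈ U) :
    U.map (g : V →ₗ[ZMod p] V) = U := by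
  refine SetLike.coe_injective (Set.eq_of_subset_of_ncard_le ?_ ?_ (Set.toFinite _))
  · rintro _ ⟨u, hu, rfl⟩; exact h u hu
  · rw [Submodule.map_coe]
    exact (Set.ncard_image_of_injective _ g.injective).ge

theorem stab₂_apply {U W : Submodule (ZMod p) V} {g : V ≃ₗ[ZMod p] V} (hg : g ∈ stab₂ U W) :
    (∀ u ∈ U, g u ∈ U) ∧ ∀ w ∈ W, g w ∈ W :=
  ⟨fun u hu => hg.1 ▸ ⟨u, hu, rfl⟩, fun w hw => hg.2 ▸ ⟨w, hw, rfl⟩⟩

/-- Either every element of order prime to `p` fixes `T`, or there is a torus element on a section above which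
`T` appears. -/
theorem exists_section (h2 : p ≠ 2) {l : ZMod p} (hl : orderOf l = p - 1) (a b : V ≃ₗ[ZMod p] V)
    (ha : ∀ w, a (a w - w) = a w - w) (hb : ∀ w, b (b w - w) = b w - w) (T : Submodule (ZMod p) V) :
    (∀ g ∈ Subgroup.closure ({a, b} : Set (V ≃ₗ[ZMod p] V)), (orderOf g).Coprime p → ∀ t ∈ T, g t = t) ∨
    ∃ (U W : Submodule (ZMod p) V), U ≤ W ∧ T ≤ W ∧ ¬ T ≤ U ∧
      Subgroup.closure ({a, b} : Set (V ≃ₗ[ZMod p] V)) ≤ stab₂ U W ∧
      ∃ g ∈ Subgroup.closure ({a, b} : Set (V ≃ₗ[ZMod p] V)),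
        (∃ k : ℕ, ∀ w ∈ W, (g * a * g⁻¹) w - (a ^ k) w ∈ U) ∧
        (∀ w ∈ W, g (g w) - (l + l⁻¹) • g w + w ∈ U) ∧
        ∃ v₁ ∈ W, ∃ v₂ ∈ W, v₁ ∉ U ∧ a v₁ - v₁ ∈ U ∧ a v₂ - (v₂ + v₁) ∈ U ∧
          g v₁ - l • v₁ ∈ U ∧ g v₂ - l⁻¹ • v₂ ∈ U := by
  classical
  set A : Module.End (ZMod p) V := a.toLinearMap - 1 with hA
  set B : Module.End (ZMod p) V := b.toLinearMap - 1 with hB
  have hAe : ∀ w, a w = w + A w := fun w => by simp [hA]
  have hBe : ∀ w, b w = w + B w := fun w => by simp [hB]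
  have hA2 : ∀ w, A (A w) = 0 := fun w => by simp [hA, ha w]
  have hB2 : ∀ w, B (B w) = 0 := fun w => by simp [hB, hb w]
  set C : Module.End (ZMod p) V := A * B + B * A with hC
  have hCA : Commute C A := by
    refine LinearMap.ext fun w => ?_; simp [hC, Module.End.mul_apply, map_add, hA2]
  have hCB : Commute C B := by
    refine LinearMap.ext fun w => ?_; simp [hC, Module.End.mul_apply, map_add, hB2]
  haveI : Finite (Module.End (ZMod p) V) :=
    Finite.of_injective (fun f => (f : V → V)) DFunLike.coe_injective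
  obtain ⟨k, hk, hkk⟩ := Cfsg.Lib.Linear.SympConj.exists_idempotent_pow C
  set B₀ := LinearMap.ker (C ^ k) with hB₀
  have hinvAB : ∀ {U : Submodule (ZMod p) V}, (∀ u ∈ U, A u ∈ U) → (∀ u ∈ U, B u ∈ U) →
      Subgroup.closure ({a, b} : Set (V ≃ₗ[ZMod p] V)) ≤ stab₂ U U := fun {U} h1 h3 => by
    rw [Subgroup.closure_le]
    rintro g (rfl | rfl)
    · exact ⟨map_eq_of_forall_mem fun u hu => by rw [hAe]; exact add_mem hu (h1 u hu),
        map_eq_of_forall_mem fun u hu => by rw [hAe]; exact add_mem hu (h1 u hu)⟩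
    · exact ⟨map_eq_of_forall_mem fun u hu => by rw [hBe]; exact add_mem hu (h3 u hu),
        map_eq_of_forall_mem fun u hu => by rw [hBe]; exact add_mem hu (h3 u hu)⟩
  have hB₀A : ∀ u ∈ B₀, A u ∈ B₀ := fun u hu => by
    rw [hB₀, LinearMap.mem_ker] at hu ⊢
    rw [← Module.End.mul_apply, (hCA.pow_left k).eq, Module.End.mul_apply, hu, map_zero]
  have hB₀B : ∀ u ∈ B₀, B u ∈ B₀ := fun u hu => by
    rw [hB₀, LinearMap.mem_ker] at hu ⊢
    rw [← Module.End.mul_apply, (hCB.pow_left k).eq, Module.End.mul_apply, hu, map_zero]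
  by_cases hTB : T ≤ B₀
  · left
    intro g hg hgo
    suffices h : ∀ U : Submodule (ZMod p) V, U ≤ B₀ → (∀ u ∈ U, A u ∈ U) → (∀ u ∈ U, B u ∈ U) →
        ∀ u ∈ U, g u = u from fun t ht => h B₀ le_rfl hB₀A hB₀B t (hTB ht)
    intro U
    induction U using WellFoundedLT.induction with
    | ind U ih =>
    intro hU hUA hUB
    by_cases hU0 : U = ⊥
    · intro u hu; rw [hU0, Submodule.mem_bot] at hu; rw [hu, map_zero]
    obtain ⟨U', ⟨hU'lt, hU'A, hU'B⟩, hmax⟩ := Set.exists_max_image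
      {U' : Submodule (ZMod p) V | U' < U ∧ (∀ u ∈ U', A u ∈ U') ∧ ∀ u ∈ U', B u ∈ U'}
      (fun U' => Nat.card U') (Set.toFinite _)
      ⟨⊥, bot_lt_iff_ne_bot.2 hU0, fun u hu => by simp [(Submodule.mem_bot _).1 hu],
        fun u hu => by simp [(Submodule.mem_bot _).1 hu]⟩
    have htop : ∀ X : Submodule (ZMod p) V, U' ≤ X → X ≤ U → (∀ u ∈ X, A u ∈ X) → (∀ u ∈ X, B u ∈ X) →
        X = U' ∨ X = U := fun X h1 h3 h4 h5 => by
      rcases eq_or_lt_of_le h3 with rfl | hlt
      · exact Or.inr rfl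
      · refine Or.inl (eq_of_le_of_not_lt h1 fun hlt' => ?_).symm
        exact absurd (hmax X ⟨hlt, h4, h5⟩) (not_le.2 (Set.Finite.card_lt_card (Set.toFinite _) hlt'))
    have hCU : ∀ u ∈ U, C u ∈ U' := by
      have hCUU : ∀ u ∈ U, C u ∈ U := fun u hu => by
        simpa [hC, Module.End.mul_apply] using add_mem (hUA _ (hUB u hu)) (hUB _ (hUA u hu))
      rcases htop (U' ⊔ U.map C) le_sup_left
          (sup_le hU'lt.le (Submodule.map_le_iff_le_comap.2 hCUU))
          (fun u hu => by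
            obtain ⟨x, hx, _, ⟨y, hy, rfl⟩, rfl⟩ := Submodule.mem_sup.1 hu
            rw [map_add, ← Module.End.mul_apply, ← hCA.eq, Module.End.mul_apply]
            exact Submodule.add_mem_sup (hU'A x hx) ⟨A y, hUA y hy, rfl⟩)
          (fun u hu => by
            obtain ⟨x, hx, _, ⟨y, hy, rfl⟩, rfl⟩ := Submodule.mem_sup.1 hu
            rw [map_add, ← Module.End.mul_apply, ← hCB.eq, Module.End.mul_apply]
            exact Submodule.add_mem_sup (hU'B x hx) ⟨B y, hUB y hy, rfl⟩) with h | h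
      · exact fun u hu => h.le (Submodule.mem_sup_right ⟨u, hu, rfl⟩)
      · exfalso
        have hiter : ∀ i : ℕ, U ≤ U' ⊔ U.map (C ^ i) := by
          intro i
          induction i with
          | zero => rw [pow_zero, Module.End.one_eq_id, Submodule.map_id]; exact le_sup_right
          | succ i ih =>
            refine ih.trans (sup_le le_sup_left ?_)
            rintro _ ⟨u, hu, rfl⟩
            obtain ⟨x, hx, _, ⟨y, hy, rfl⟩, rfl⟩ := Submodule.mem_sup.1 (h.ge hu)
            rw [map_add, pow_succ]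
            have hpres : ∀ (i : ℕ) (x : V), x ∈ U' → (C ^ i) x ∈ U' := by
              intro i
              induction i with
              | zero => intro x hx; simpa using hx
              | succ i ihi =>
                intro x hx
                rw [pow_succ', Module.End.mul_apply, hC, LinearMap.add_apply, Module.End.mul_apply,
                  Module.End.mul_apply]
                exact add_mem (hU'A _ (hU'B _ (ihi x hx))) (hU'B _ (hU'A _ (ihi x hx)))
            exact Submodule.add_mem_sup (hpres i x hx) ⟨y, hy, by rw [Module.End.mul_apply]⟩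
        refine absurd ((hiter k).trans (sup_le le_rfl ?_)) (not_le_of_gt hU'lt)
        rintro _ ⟨u, hu, rfl⟩
        rw [LinearMap.mem_ker.1 (hU hu)]
        exact zero_mem _
    have key : ∀ X Y : Module.End (ZMod p) V, (∀ w, X (X w) = 0) → (∀ w, X (Y w) + Y (X w) = C w) →
        (∀ u ∈ U, X u ∈ U) → (∀ u ∈ U, Y u ∈ U) → (∀ u ∈ U', X u ∈ U') → (∀ u ∈ U', Y u ∈ U') →
        (∀ Z : Submodule (ZMod p) V, U' ≤ Z → Z ≤ U → (∀ u ∈ Z, X u ∈ Z) → (∀ u ∈ Z, Y u ∈ Z) →
          Z = U' ∨ Z = U) → ∀ u ∈ U, X u ∈ U' := by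
      intro X Y hX2 hXY hUX hUY hX' hY' htop
      rcases htop (U ⊓ U'.comap X) (le_inf hU'lt.le fun u hu => hX' u hu) inf_le_left
          (fun u hu => ⟨hUX u hu.1, by
            show X (X u) ∈ U'
            rw [hX2]; exact zero_mem _⟩)
          (fun u hu => ⟨hUY u hu.1, by
            show X (Y u) ∈ U'
            rw [eq_sub_of_add_eq (hXY u)]
            exact sub_mem (hCU u hu.1) (hY' _ hu.2)⟩) with h | h
      · exact fun u hu => h.le ⟨hUX u hu, by show X (X u) ∈ U'; rw [hX2]; exact zero_mem _⟩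
      · exact fun u hu => (h.ge hu).2
    have hAU := key A B hA2 (fun w => by simp [hC, Module.End.mul_apply]) hUA hUB hU'A hU'B htop
    have hBU := key B A hB2 (fun w => by simp [hC, Module.End.mul_apply, add_comm]) hUB hUA hU'B hU'A
      fun Z h1 h3 h4 h5 => htop Z h1 h3 h5 h4
    have htriv : ∀ h ∈ Subgroup.closure ({a, b} : Set (V ≃ₗ[ZMod p] V)), ∀ u ∈ U, h u - u ∈ U' := by
      intro h hh
      induction hh using Subgroup.closure_induction with
      | mem h hh =>
        rcases hh with rfl | rfl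
        · intro u hu; rw [hAe, add_sub_cancel_left]; exact hAU u hu
        · intro u hu; rw [hBe, add_sub_cancel_left]; exact hBU u hu
      | one => intro u _; simp
      | mul x y hx hy hxi hyi =>
        intro u hu
        have e : (x * y) u - u = (x (y u) - y u) + (y u - u) := by
          show x (y u) - u = _; abel
        rw [e]
        exact add_mem (hxi _ ((stab₂_apply (hinvAB hUA hUB hy)).1 u hu)) (hyi u hu)
      | inv x hx hxi =>
        intro u hu
        have h1 : x⁻¹ u ∈ U := (stab₂_apply (hinvAB hUA hUB (inv_mem hx))).1 u hu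
        have h3 := hxi _ h1
        rw [show x (x⁻¹ u) = u from x.apply_symm_apply u] at h3
        simpa using neg_mem h3
    intro u hu
    have hfix := ih U' hU'lt (hU'lt.le.trans hU) hU'A hU'B
    set d := g u - u with hd
    have hd' : d ∈ U' := htriv g hg u hu
    have hpow : ∀ n : ℕ, (g ^ n) u = u + n • d := by
      intro n
      induction n with
      | zero => simp
      | succ n ihn =>
        rw [pow_succ', LinearEquiv.mul_apply, ihn, map_add, map_nsmul, hfix d hd', succ_nsmul, hd]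
        abel
    have h1 := hpow (orderOf g)
    rw [pow_orderOf_eq_one, show (1 : V ≃ₗ[ZMod p] V) u = u from rfl, left_eq_add, ← Nat.cast_smul_eq_nsmul (ZMod p)] at h1
    have hne : ((orderOf g : ℕ) : ZMod p) ≠ 0 := fun h0 => by
      have := Nat.eq_one_of_dvd_coprimes hgo ((ZMod.natCast_eq_zero_iff _ _).1 h0) (dvd_refl p)
      exact hp.out.ne_one this
    exact sub_eq_zero.1 ((smul_eq_zero.1 h1).resolve_left hne)
  · right
    obtain ⟨U, ⟨hUB₀, hUA, hUB, hTU⟩, hmax⟩ := Set.exists_max_image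
      {U : Submodule (ZMod p) V | B₀ ≤ U ∧ (∀ u ∈ U, A u ∈ U) ∧ (∀ u ∈ U, B u ∈ U) ∧ ¬ T ≤ U}
      (fun U => Nat.card U) (Set.toFinite _) ⟨B₀, le_rfl, hB₀A, hB₀B, hTB⟩
    set W : Submodule (ZMod p) V :=
      sInf {X | U < X ∧ (∀ u ∈ X, A u ∈ X) ∧ ∀ u ∈ X, B u ∈ X} with hW
    have hall : ∀ X : Submodule (ZMod p) V, U < X → (∀ u ∈ X, A u ∈ X) → (∀ u ∈ X, B u ∈ X) → T ≤ X :=
      fun X h1 h3 h4 => by
        by_contra h5
        exact absurd (hmax X ⟨hUB₀.trans h1.le, h3, h4, h5⟩)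
          (not_le.2 (Set.Finite.card_lt_card (Set.toFinite _) h1))
    have hTW : T ≤ W := le_sInf fun X hX => hall X hX.1 hX.2.1 hX.2.2
    have hUW : U ≤ W := le_sInf fun X hX => hX.1.le
    have hWA : ∀ u ∈ W, A u ∈ W := fun u hu => by
      rw [hW, Submodule.mem_sInf] at hu ⊢
      exact fun X hX => hX.2.1 u (hu X hX)
    have hWB : ∀ u ∈ W, B u ∈ W := fun u hu => by
      rw [hW, Submodule.mem_sInf] at hu ⊢
      exact fun X hX => hX.2.2 u (hu X hX)
    have hlast : ∀ X : Submodule (ZMod p) V, U < X → (∀ u ∈ X, A u ∈ X) → (∀ u ∈ X, B u ∈ X) → W ≤ X :=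
      fun X h1 h3 h4 => sInf_le ⟨h1, h3, h4⟩
    have hcl : Subgroup.closure ({a, b} : Set (V ≃ₗ[ZMod p] V)) ≤ stab₂ U W := fun g hg =>
      ⟨(hinvAB hUA hUB hg).1, (hinvAB hWA hWB hg).1⟩
    refine ⟨U, W, hUW, hTW, hTU, hcl, ?_⟩
    -- the factor
    set U' : Submodule (ZMod p) W := U.comap W.subtype with hU'
    let res : stab₂ U W → ((W ⧸ U') ≃ₗ[ZMod p] (W ⧸ U')) := fun g =>
      Submodule.Quotient.equiv U' U' ((g : V ≃ₗ[ZMod p] V).ofSubmodules W W g.2.2) (by
        refine SetLike.ext fun w => ⟨?_, fun hw => ?_⟩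
        · rintro ⟨x, hx, rfl⟩
          exact (stab₂_apply g.2).1 _ hx
        · refine ⟨((g : V ≃ₗ[ZMod p] V).ofSubmodules W W g.2.2).symm w,
            ((stab₂_apply (inv_mem g.2)).1 _ hw : _), LinearEquiv.apply_symm_apply _ _⟩)
    have hres : ∀ (g : stab₂ U W) (w : W), res g (Submodule.Quotient.mk w) =
        Submodule.Quotient.mk (⟨(g : V ≃ₗ[ZMod p] V) w, (stab₂_apply g.2).2 w w.2⟩ : W) := fun g w => rfl
    let π : stab₂ U W →* ((W ⧸ U') ≃ₗ[ZMod p] (W ⧸ U')) :=
      MonoidHom.mk' res fun g h => LinearEquiv.ext fun x => by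
        obtain ⟨w, rfl⟩ := Submodule.Quotient.mk_surjective _ x
        rw [LinearEquiv.mul_apply, hres, hres, hres]
        rfl
    have hπ : ∀ (g : stab₂ U W) (w : W), π g (Submodule.Quotient.mk w) =
        Submodule.Quotient.mk (⟨(g : V ≃ₗ[ZMod p] V) w, (stab₂_apply g.2).2 w w.2⟩ : W) := hres
    set a' : stab₂ U W := ⟨a, hcl (Subgroup.subset_closure (by simp))⟩ with ha'
    set b' : stab₂ U W := ⟨b, hcl (Subgroup.subset_closure (by simp))⟩ with hb'
    have hmk : ∀ x y : W, (x : V) - y ∈ U → (Submodule.Quotient.mk x : W ⧸ U') = Submodule.Quotient.mk y :=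
      fun x y h => (Submodule.Quotient.eq U').2 h
    have hqa : ∀ (c : stab₂ U W), (∀ w, (c : V ≃ₗ[ZMod p] V) ((c : V ≃ₗ[ZMod p] V) w - w) =
        (c : V ≃ₗ[ZMod p] V) w - w) → ∀ x, π c (π c x - x) = π c x - x := fun c hc x => by
      obtain ⟨w, rfl⟩ := Submodule.Quotient.mk_surjective _ x
      rw [hπ, ← Submodule.Quotient.mk_sub, hπ]
      congr 1
      exact Subtype.ext (hc w)
    have hirr : ∀ X : Submodule (ZMod p) (W ⧸ U'), (∀ x ∈ X, π a' x ∈ X) → (∀ x ∈ X, π b' x ∈ X) →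
        X = ⊥ ∨ X = ⊤ := by
      intro X hXa hXb
      set X₀ : Submodule (ZMod p) V := (X.comap U'.mkQ).map W.subtype with hX₀
      have hUX : U ≤ X₀ := fun u hu => ⟨⟨u, hUW hu⟩, by
        show U'.mkQ ⟨u, hUW hu⟩ ∈ X
        rw [Submodule.mkQ_apply, (Submodule.Quotient.mk_eq_zero U').2 hu]; exact zero_mem _, rfl⟩
      rcases eq_or_lt_of_le hUX with he | hlt
      · left
        rw [Submodule.eq_bot_iff]
        intro x hx
        obtain ⟨w, rfl⟩ := Submodule.Quotient.mk_surjective _ x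
        exact (Submodule.Quotient.mk_eq_zero U').2 (he.ge ⟨w, hx, rfl⟩)
      · right
        rw [Submodule.eq_top_iff']
        intro x
        obtain ⟨w, rfl⟩ := Submodule.Quotient.mk_surjective _ x
        have hW' : W ≤ X₀ := hlast X₀ hlt
          (fun u hu => by
            obtain ⟨y, hy, rfl⟩ := hu
            have e : A y = a y - y := by rw [hAe, add_sub_cancel_left]
            rw [Submodule.subtype_apply, e]
            exact sub_mem ⟨_, (show U'.mkQ _ ∈ X from (hπ a' y) ▸ hXa _ hy), rfl⟩ ⟨y, hy, rfl⟩)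
          (fun u hu => by
            obtain ⟨y, hy, rfl⟩ := hu
            have e : B y = b y - y := by rw [hBe, add_sub_cancel_left]
            rw [Submodule.subtype_apply, e]
            exact sub_mem ⟨_, (show U'.mkQ _ ∈ X from (hπ b' y) ▸ hXb _ hy), rfl⟩ ⟨y, hy, rfl⟩)
        obtain ⟨y, hy, hyw⟩ := hW' w.2
        rwa [Subtype.ext hyw] at hy
    have hCne : ((π a').toLinearMap - 1) * ((π b').toLinearMap - 1) +
        ((π b').toLinearMap - 1) * ((π a').toLinearMap - 1) ≠ 0 := by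
      intro h0
      have hCW : ∀ w ∈ W, C w ∈ U := fun w hw => by
        have h := LinearMap.congr_fun h0 (Submodule.Quotient.mk (⟨w, hw⟩ : W))
        simp only [LinearMap.add_apply, Module.End.mul_apply, LinearMap.sub_apply, Module.End.one_apply,
          LinearEquiv.coe_coe, hπ, ← Submodule.Quotient.mk_sub, ← Submodule.Quotient.mk_add,
          LinearMap.zero_apply, Submodule.Quotient.mk_eq_zero] at h
        have h' : (a (b w - w) - (b w - w)) + (b (a w - w) - (a w - w)) ∈ U := h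
        rw [hC, LinearMap.add_apply, Module.End.mul_apply, Module.End.mul_apply]
        simpa [hA, hB] using h'
      refine hTU (hTW.trans fun w hw => ?_)
      have h1 : (C ^ k) w ∈ U := by
        obtain ⟨j, rfl⟩ : ∃ j, k = j + 1 := ⟨k - 1, by omega⟩
        have hpres : ∀ i : ℕ, ∀ x ∈ U, (C ^ i) x ∈ U := by
          intro i
          induction i with
          | zero => intro x hx; simpa using hx
          | succ i ihi =>
            intro x hx
            rw [pow_succ', Module.End.mul_apply, hC, LinearMap.add_apply, Module.End.mul_apply,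
              Module.End.mul_apply]
            exact add_mem (hUA _ (hUB _ (ihi x hx))) (hUB _ (hUA _ (ihi x hx)))
        rw [pow_succ, Module.End.mul_apply]
        exact hpres j _ (hCW w hw)
      have h3 : w - (C ^ k) w ∈ B₀ := by
        rw [hB₀, LinearMap.mem_ker, map_sub, ← Module.End.mul_apply, hkk, sub_self]
      simpa using add_mem (hUB₀ h3) h1
    haveI : Finite (W ⧸ U') := Finite.of_surjective _ (Submodule.Quotient.mk_surjective U')
    obtain ⟨g', hg', ⟨j, hj⟩, hgq, w₁, w₂, hw₁, haw₁, haw₂, hgw₁, hgw₂⟩ :=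
      exists_torus_plane h2 hl (π a') (π b') (hqa a' ha) (hqa b' hb) hirr hCne
    rw [← Set.image_pair, ← MonoidHom.map_closure] at hg'
    obtain ⟨g, hg, rfl⟩ := hg'
    have hgmem : (g : V ≃ₗ[ZMod p] V) ∈ Subgroup.closure ({a, b} : Set (V ≃ₗ[ZMod p] V)) := by
      have := Subgroup.mem_map_of_mem (stab₂ U W).subtype hg
      rwa [MonoidHom.map_closure, Set.image_pair] at this
    obtain ⟨x₁, rfl⟩ := Submodule.Quotient.mk_surjective _ w₁
    obtain ⟨x₂, rfl⟩ := Submodule.Quotient.mk_surjective _ w₂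
    rw [hπ, Submodule.Quotient.eq] at haw₁
    rw [hπ, ← Submodule.Quotient.mk_add, Submodule.Quotient.eq] at haw₂
    rw [hπ, ← Submodule.Quotient.mk_smul, Submodule.Quotient.eq] at hgw₁ hgw₂
    refine ⟨g, hgmem, ⟨j, fun w hw => ?_⟩, fun w hw => ?_, x₁, x₁.2, x₂, x₂.2,
      fun h => hw₁ ((Submodule.Quotient.mk_eq_zero U').2 h), haw₁, haw₂, hgw₁, hgw₂⟩
    · have h := LinearEquiv.congr_fun hj (Submodule.Quotient.mk (⟨w, hw⟩ : W))
      rw [← map_inv, ← map_mul, ← map_mul, ← map_pow, hπ, hπ, Submodule.Quotient.eq] at h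
      exact h
    · have h := hgq (Submodule.Quotient.mk (⟨w, hw⟩ : W))
      rw [hπ, hπ, ← Submodule.Quotient.mk_smul, ← Submodule.Quotient.mk_sub, ← Submodule.Quotient.mk_add,
        Submodule.Quotient.mk_eq_zero] at h
      exact h

end Cfsg.Lib.Local.QuadTorus
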