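import Cfsg.Agent.Lib.Local.QuadTorus.Datum
import Cfsg.Agent.Lib.Local.QuadTorus.Section
import Cfsg.Agent.Lib.Local.QuadTorus.Basic
import Cfsg.Agent.Lib.Core.Cores
import Cfsg.Agent.Lib.Solv.Nilpotent

/-!
# The quadratic torus lemma
-/

set_option autoImplicit false
set_option linter.style.haveILetI false

namespace Cfsg.Lib.Local.QuadTorus

open Subgroup

universe u

variable {G : Type u} [Group G] {p : ℕ}

/-- The `p`-elements acting quadratically on `B`. -/
def quad (p : ℕ) (B : Subgroup G) : Set G :=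
  {x | (∃ i : ℕ, x ^ p ^ i = 1) ∧ ∀ w ∈ B, Commute x (x * w * x⁻¹ * w⁻¹)}

theorem quad_conj {B : Subgroup G} [B.Normal] {x : G} (hx : x ∈ quad p B) (g : G) :
    g * x * g⁻¹ ∈ quad p B := by
  obtain ⟨⟨i, hi⟩, hq⟩ := hx
  refine ⟨⟨i, by rw [conj_pow, hi, mul_one, mul_inv_cancel]⟩, fun w hw => ?_⟩
  have h := (hq _ ((inferInstance : B.Normal).conj_mem w hw g⁻¹)).map (MulAut.conj g).toMonoidHom
  simpa [mul_assoc] using h

theorem normalizer_le_normalizer_quad [Finite G] {B : Subgroup G} [B.Normal] (V : Subgroup G) :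
    normalizer (V : Set G) ≤ normalizer (closure (quad p B ∩ V) : Set G) := fun g hg => by
  refine mem_normalizer_fintype fun x hx => ?_
  have h : (closure (quad p B ∩ (V : Set G))).map (MulAut.conj g).toMonoidHom ≤ closure (quad p B ∩ V) := by
    rw [MonoidHom.map_closure, closure_le]
    rintro _ ⟨y, hy, rfl⟩
    exact subset_closure ⟨quad_conj hy.1 g, (mem_normalizer_iff.1 hg y).1 hy.2⟩
  exact h ⟨x, hx, rfl⟩

variable [Finite G] [hp : Fact p.Prime]

theorem orderOf_inv_eq {l : ZMod p} : orderOf l⁻¹ = orderOf l := by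
  refine orderOf_eq_orderOf_iff.2 fun n => ?_
  rw [inv_pow, inv_eq_one]

/-- The quadratic torus lemma. -/
theorem exists_torusDatum (h2 : p ≠ 2) {l : ZMod p} (hl : orderOf l = p - 1) (B : Subgroup G) [B.Normal]
    (hBc : ∀ x ∈ B, ∀ y ∈ B, x * y = y * x) (hBp : ∀ w ∈ B, w ^ p = 1) (P : Sylow p G) {T : Subgroup G}
    (hT : T ≤ B) (hPT : (P : Subgroup G) ≤ normalizer (T : Set G)) (hTn : ¬ T.Normal)
    (hU : normalizer (closure (quad p B ∩ (P : Subgroup G)) : Set G) ≤ normalizer (T : Set G)) :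
    ∃ (R : Subgroup G) (n : G), R ≤ (P : Subgroup G) ∧ n ∈ normalizer (T : Set G) ∧
      IsTorusDatum l T R n := by
  classical
  set M := normalizer (T : Set G) with hM
  have hMne : ¬ (⊤ : Subgroup G) ≤ M := fun h => hTn (normalizer_eq_top_iff.1 (top_le_iff.1 h))
  have hBpg : IsPGroup p B := fun ⟨w, hw⟩ => ⟨1, Subtype.ext (by simpa using hBp w hw)⟩
  have hBP : B ≤ (P : Subgroup G) :=
    (Cfsg.Lib.Core.le_pCore hBpg).trans (Cfsg.Lib.Core.pCore_le_sylow P)
  have hPidx : ¬ p ∣ (P : Subgroup G).relIndex M := fun hd =>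
    P.not_dvd_index (hd.trans (Subgroup.relIndex_dvd_index_of_le hPT))
  have hbot : (⊤ : Subgroup G) ≤ normalizer (closure (quad p B ∩ ((⊥ : Subgroup G) : Set G)) : Set G) :=
    fun g _ => mem_normalizer_fintype fun x hx => by
      have hx' : x ∈ (⊥ : Subgroup G) := (closure_le _).2 Set.inter_subset_right hx
      rw [mem_bot.1 hx']
      simp
  -- a maximal set
  obtain ⟨V₀, ⟨hV₀p, hV₀M, hV₀N⟩, hmax⟩ := Set.exists_max_image
    {V : Subgroup G | IsPGroup p V ∧ V ≤ M ∧ ¬ normalizer (closure (quad p B ∩ V) : Set G) ≤ M}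
    (fun V => (quad p B ∩ (V : Set G)).ncard) (Set.toFinite _)
    ⟨⊥, IsPGroup.of_bot, bot_le, fun h => hMne (le_trans hbot h)⟩
  set D₀ := closure (quad p B ∩ (V₀ : Set G)) with hD₀
  have hD₀V : D₀ ≤ V₀ := (closure_le _).2 Set.inter_subset_right
  have hqD₀ : quad p B ∩ (V₀ : Set G) ⊆ (D₀ : Set G) := subset_closure
  have hD₀p : IsPGroup p D₀ := hV₀p.to_le hD₀V
  set X := normalizer (D₀ : Set G) with hX
  have hbig : ∀ V : Subgroup G, IsPGroup p V → V ≤ M → D₀ ≤ V → ∀ e ∈ V, e ∈ quad p B → e ∉ D₀ →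
      normalizer (V : Set G) ≤ M := fun V hVp hVM hDV e heV heq heD => by
    refine (normalizer_le_normalizer_quad (p := p) (B := B) V).trans ?_
    by_contra hn
    refine absurd (hmax V ⟨hVp, hVM, hn⟩) (not_le.2 (Set.ncard_lt_ncard ?_ (Set.toFinite _)))
    refine ⟨fun x hx => ⟨hx.1, hDV (hqD₀ hx)⟩, fun hsub => heD (hqD₀ (hsub ⟨heq, heV⟩))⟩
  have hkey : ∀ {e : G}, e ∈ quad p B → e ∉ D₀ → e ∈ M → ∀ T' : Subgroup G, IsPGroup p T' → T' ≤ X →
      e ∈ T' → T' ≤ M ∧ ∀ g ∈ X, g ∈ normalizer (T' : Set G) → g ∈ M := by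
    intro e heq heD heM T' hT'p hT'X heT'
    have hp' : IsPGroup p (T' ⊔ D₀ : Subgroup G) := hT'p.to_sup_of_normal_right' hD₀p hT'X
    set V := (T' ⊔ D₀) ⊓ M with hV
    have hDV : D₀ ≤ V := le_inf le_sup_right (hD₀V.trans hV₀M)
    have hNV := hbig V (hp'.to_le inf_le_left) inf_le_right hDV e ⟨le_sup_left (a := T') heT', heM⟩ heq heD
    have heqV : V = T' ⊔ D₀ := by
      by_contra hne
      have hlt := lt_inf_normalizer' hp' (lt_of_le_of_ne inf_le_left hne)
      exact hlt.not_ge (le_inf inf_le_left (inf_le_right.trans hNV))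
    refine ⟨(le_sup_left.trans heqV.ge).trans inf_le_right, fun g hgX hg => hNV ?_⟩
    rw [heqV]
    refine mem_normalizer_fintype fun x hx => ?_
    have h : (T' ⊔ D₀).map (MulAut.conj g).toMonoidHom ≤ T' ⊔ D₀ := by
      rw [Subgroup.map_sup]
      refine sup_le_sup ?_ ?_
      · rintro _ ⟨y, hy, rfl⟩; exact (mem_normalizer_iff.1 hg y).1 hy
      · rintro _ ⟨y, hy, rfl⟩; exact (mem_normalizer_iff.1 hgX y).1 hy
    exact h ⟨x, hx, rfl⟩
  -- an element with a conjugate outside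
  obtain ⟨e, x, heq, heM, heX, hxX, heD, hfM⟩ : ∃ e x : G, e ∈ quad p B ∧ e ∈ M ∧ e ∈ X ∧ x ∈ X ∧ e ∉ D₀ ∧
      x * e * x⁻¹ ∉ M := by
    obtain ⟨P₁, hV₀P₁, hP₁M, hP₁p, hP₁idx⟩ := exists_sylow_of_le hV₀p hV₀M
    have hP₁N : normalizer (closure (quad p B ∩ (P₁ : Set G)) : Set G) ≤ M := by
      let SP : Sylow p M := (P.isPGroup'.of_equiv (subgroupOfEquivOfLe hPT).symm).toSylow hPidx
      let SP₁ : Sylow p M := (hP₁p.of_equiv (subgroupOfEquivOfLe hP₁M).symm).toSylow hP₁idx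
      obtain ⟨m, hm⟩ := MulAction.exists_smul_eq M SP₁ SP
      have hm' : ∀ y, y ∈ P₁ ↔ (m : G) * y * (m : G)⁻¹ ∈ (P : Subgroup G) := by
        intro y
        constructor
        · intro hy
          have h1 : m * ⟨y, hP₁M hy⟩ * m⁻¹ ∈ (SP : Subgroup M) := by
            rw [← hm]; exact ⟨_, (hy : (⟨y, hP₁M hy⟩ : M) ∈ P₁.subgroupOf M), rfl⟩
          exact mem_subgroupOf.1 h1
        · intro hy
          have h1 : (⟨_, hPT hy⟩ : M) ∈ (SP : Subgroup M) := hy
          rw [← hm] at h1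
          obtain ⟨z, hz, hze⟩ := h1
          have h3 : (m : G) * (z : G) * (m : G)⁻¹ = (m : G) * y * (m : G)⁻¹ := congrArg Subtype.val hze
          rw [mul_left_inj, mul_right_inj] at h3
          exact h3 ▸ mem_subgroupOf.1 hz
      intro g hg
      have h1 : (m : G) * g * (m : G)⁻¹ ∈ M := hU (mem_normalizer_fintype fun y hy => by
        have hmap : (closure (quad p B ∩ (P₁ : Set G))).map (MulAut.conj (m : G)).toMonoidHom =
            closure (quad p B ∩ ((P : Subgroup G) : Set G)) := by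
          rw [MonoidHom.map_closure]
          congr 1
          ext z
          constructor
          · rintro ⟨w, hw, rfl⟩
            exact ⟨quad_conj hw.1 _, (hm' w).1 hw.2⟩
          · intro hz
            refine ⟨(m : G)⁻¹ * z * m, ⟨by simpa using quad_conj hz.1 (m : G)⁻¹, (hm' _).2 ?_⟩, by simp [mul_assoc]⟩
            rw [show (m : G) * ((m : G)⁻¹ * z * m) * (m : G)⁻¹ = z by group]
            exact hz.2
        rw [← hmap] at hy ⊢
        obtain ⟨w, hw, rfl⟩ := hy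
        exact ⟨g * w * g⁻¹, (mem_normalizer_iff.1 hg w).1 hw, by simp [mul_assoc]⟩)
      simpa [mul_assoc] using mul_mem (mul_mem (inv_mem m.2) h1) m.2
    have hne : quad p B ∩ (P₁ : Set G) ≠ quad p B ∩ (V₀ : Set G) := fun he => hV₀N (by rw [hX, hD₀, ← he]; exact hP₁N)
    set N₁ := P₁ ⊓ X with hN₁
    have hD₀N₁ : D₀ ≤ N₁ := le_inf (hD₀V.trans hV₀P₁) le_normalizer
    obtain ⟨e, heN, heq, heD⟩ : ∃ e ∈ N₁, e ∈ quad p B ∧ e ∉ D₀ := by
      by_contra hcon
      push Not at hcon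
      have he : closure (quad p B ∩ (N₁ : Set G)) = D₀ :=
        le_antisymm ((closure_le _).2 fun y hy => hcon y hy.2 hy.1)
          ((closure_le _).2 fun y hy => subset_closure ⟨hy.1, hD₀N₁ (hqD₀ hy)⟩)
      rcases eq_or_lt_of_le (inf_le_left : N₁ ≤ P₁) with heq | hlt
      · refine hne (Set.Subset.antisymm (fun y hy => ⟨hy.1, hD₀V (hcon y (heq.ge hy.2) hy.1)⟩)
          fun y hy => ⟨hy.1, hV₀P₁ hy.2⟩)
      · refine (lt_inf_normalizer' hP₁p hlt).not_ge (le_inf inf_le_left ?_)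
        exact inf_le_right.trans ((normalizer_le_normalizer_quad (p := p) (B := B) N₁).trans (by rw [he]))
    obtain ⟨RX, hNR, hRX, hRXp, hRXidx⟩ := exists_sylow_of_le (hP₁p.to_le inf_le_left) (inf_le_right : N₁ ≤ X)
    have hRXM := (hkey heq heD (hP₁M heN.1) RX hRXp hRX (hNR heN)).1
    by_contra hcon
    push Not at hcon
    set S₁ := {y | ∃ x ∈ X, ∃ q ∈ quad p B ∩ (RX : Set G), x * q * x⁻¹ = y} with hS₁
    set K := closure S₁ with hK
    have hKM : K ≤ M := by
      rw [hK, closure_le]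
      rintro _ ⟨x, hx, q, hq, rfl⟩
      by_cases hqD : q ∈ D₀
      · exact hV₀M (hD₀V ((mem_normalizer_iff.1 hx q).1 hqD))
      · exact hcon q x hq.1 (hRXM hq.2) (hRX hq.2) hx hqD
    have hKX : K ≤ X := by
      rw [hK, closure_le]
      rintro _ ⟨x, hx, q, hq, rfl⟩
      exact mul_mem (mul_mem hx (hRX hq.2)) (inv_mem hx)
    have heK : e ∈ K := subset_closure ⟨1, X.one_mem, e, ⟨heq, hNR heN⟩, by simp⟩
    have hKn : ∀ g ∈ X, g ∈ normalizer (K : Set G) := fun g hg => mem_normalizer_fintype fun y hy => by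
      have h : K.map (MulAut.conj g).toMonoidHom ≤ K := by
        rw [hK, MonoidHom.map_closure, closure_le]
        rintro _ ⟨_, ⟨x, hx, q, hq, rfl⟩, rfl⟩
        exact subset_closure ⟨g * x, mul_mem hg hx, q, hq, by simp [mul_assoc]⟩
      exact h ⟨y, hy, rfl⟩
    have hidx : ¬ p ∣ (RX ⊓ K).relIndex K := by
      rw [inf_relIndex_right]
      intro hd
      let SX : Sylow p X := (hRXp.of_equiv (subgroupOfEquivOfLe hRX).symm).toSylow hRXidx
      haveI : (K.subgroupOf X).Normal :=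
        ⟨fun y hy g => mem_subgroupOf.2 ((mem_normalizer_iff.1 (hKn g g.2) _).1 (mem_subgroupOf.1 hy))⟩
      have := Cfsg.Lib.Solv.not_dvd_relIndex_of_isSubnormal SX
        (Subgroup.Normal.isSubnormal (inferInstance : (K.subgroupOf X).Normal))
      refine this ?_
      show p ∣ (RX.subgroupOf X).relIndex (K.subgroupOf X)
      rw [relIndex_subgroupOf hKX]
      exact hd
    refine hV₀N fun g hg => ?_
    obtain ⟨k, hk, hkg⟩ := frattini_elem' (hRXp.to_le inf_le_left) (inf_le_right : RX ⊓ K ≤ K) hidx (hKn g hg)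
    have := (hkey heq heD (hP₁M heN.1) (RX ⊓ K) (hRXp.to_le inf_le_left) (inf_le_left.trans hRX)
      ⟨hNR heN, heK⟩).2 _ (mul_mem (hKX hk) hg) hkg
    simpa using mul_mem (inv_mem (hKM hk)) this
  -- linearization
  letI : CommGroup B := { (inferInstance : Group B) with mul_comm := fun y z => Subtype.ext (hBc _ y.2 _ z.2) }
  have hB0 : ∀ w : Additive B, p • w = 0 := fun w => by
    rw [← ofMul_toMul w, ← ofMul_pow]
    exact congrArg Additive.ofMul (Subtype.ext (hBp _ (Additive.toMul w).2))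
  haveI : Module (ZMod p) (Additive B) := AddCommGroup.zmodModule hB0
  haveI : Finite (Additive B) := inferInstanceAs (Finite B)
  let lin : G → (Additive B ≃ₗ[ZMod p] Additive B) := fun g =>
    { (MulEquiv.toAdditive (MulAut.conjNormal g : MulAut B)) with
      map_smul' := fun c w => (ZMod.map_smul
        (MulEquiv.toAdditive (MulAut.conjNormal g : MulAut B)).toAddMonoidHom c w) }
  have hlin : ∀ (g : G) (w : Additive B), lin g w =
      Additive.ofMul ((MulAut.conjNormal g : MulAut B) (Additive.toMul w)) := fun g w => rfl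
  let ρ : G →* (Additive B ≃ₗ[ZMod p] Additive B) :=
    { toFun := lin
      map_one' := LinearEquiv.ext fun w => by
        rw [hlin, map_one]; rfl
      map_mul' := fun g h => LinearEquiv.ext fun w => by
        show lin (g * h) w = lin g (lin h w)
        rw [hlin, hlin, hlin, map_mul]; rfl }
  have hρ : ∀ (g : G) (w : Additive B),
      ((Additive.toMul (ρ g w) : B) : G) = g * ((Additive.toMul w : B) : G) * g⁻¹ := fun g w =>
    MulAut.conjNormal_apply g _
  have hρ' : ∀ (g : G) (y : G) (hy : y ∈ B), ρ g (Additive.ofMul (⟨y, hy⟩ : B)) =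
      Additive.ofMul (⟨g * y * g⁻¹, (inferInstance : B.Normal).conj_mem y hy g⟩ : B) := fun g y hy =>
    Additive.toMul.injective (Subtype.ext (hρ g _))
  have hquad : ∀ c : G, c ∈ quad p B → ∀ w, ρ c (ρ c w - w) = ρ c w - w := by
    intro c hc w
    apply Additive.toMul.injective
    apply Subtype.ext
    rw [hρ, sub_eq_add_neg, toMul_add, toMul_neg, Subgroup.coe_mul, Subgroup.coe_inv, hρ]
    exact mul_inv_eq_iff_eq_mul.2 (hc.2 _ (Additive.toMul w).2).eq
  let Tm : Submodule (ZMod p) (Additive B) := AddSubgroup.toZModSubmodule p (Subgroup.toAddSubgroup (T.subgroupOf B))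
  have hTm : ∀ (y : G) (hy : y ∈ B), (Additive.ofMul (⟨y, hy⟩ : B) ∈ Tm ↔ y ∈ T) := fun y hy => Iff.rfl
  set f := x * e * x⁻¹ with hf
  set Q := closure ({e, f} : Set G) with hQ
  have hfX : f ∈ X := mul_mem (mul_mem hxX heX) (inv_mem hxX)
  have hQX : Q ≤ X := (closure_le _).2 (Set.insert_subset heX (Set.singleton_subset_iff.2 hfX))
  have heQ : e ∈ Q := subset_closure (by simp)
  have hQmap : Q.map ρ = closure ({ρ e, ρ f} : Set (Additive B ≃ₗ[ZMod p] Additive B)) := by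
    rw [hQ, MonoidHom.map_closure, Set.image_pair]
  have hep : IsPGroup p (zpowers e) := by
    rintro ⟨y, hy⟩
    obtain ⟨i, rfl⟩ := mem_zpowers_iff.1 hy
    obtain ⟨j, hj⟩ := heq.1
    exact ⟨j, Subtype.ext (by
      show (e ^ i) ^ p ^ j = 1
      rw [← zpow_natCast, ← _root_.zpow_mul, mul_comm, _root_.zpow_mul, zpow_natCast, hj, one_zpow])⟩
  rcases exists_section h2 hl (ρ e) (ρ f) (hquad e heq) (hquad f (quad_conj heq x)) Tm with
    hleft | ⟨U, W, hUW, hTW, hTU, hstab, g₀, hg₀, ⟨k₀, hk₀⟩, hq₀, v₁, hv₁, v₂, hv₂, hv₁U, hev₁, hev₂, hgv₁, hgv₂⟩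
  · exfalso
    obtain ⟨S, hS, hSQ, hSp, hSidx⟩ := exists_sylow_of_le hep (zpowers_le.2 heQ)
    refine hfM (le_of_coprime_elements hSQ hSidx
      (hkey heq heD heM S hSp (hSQ.trans hQX) (hS (mem_zpowers e))).1 (fun y hy hyo => ?_)
      (subset_closure (by simp) : f ∈ Q))
    refine mem_normalizer_fintype fun t ht => ?_
    have h := hleft (ρ y) (hQmap ▸ mem_map_of_mem ρ hy)
      (Nat.Coprime.coprime_dvd_left (orderOf_map_dvd ρ y) hyo) _ ((hTm t (hT ht)).2 ht)
    rw [hρ'] at h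
    show y * t * y⁻¹ ∈ T
    rw [show y * t * y⁻¹ = t from congrArg Subtype.val (Additive.ofMul.injective h)]
    exact ht
  rw [← hQmap] at hg₀ hstab
  obtain ⟨n₀, hn₀, rfl⟩ := hg₀
  have hst : ∀ {y}, y ∈ Q → ρ y ∈ stab₂ U W := fun hy => hstab (mem_map_of_mem ρ hy)
  have hstU : ∀ {y}, y ∈ Q → ∀ u ∈ U, ρ y u ∈ U := fun hy => (stab₂_apply (hst hy)).1
  have hstW : ∀ {y}, y ∈ Q → ∀ w ∈ W, ρ y w ∈ W := fun hy => (stab₂_apply (hst hy)).2
  -- the kernel
  let Kq : Subgroup G :=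
    { carrier := {y | y ∈ Q ∧ ∀ w ∈ W, ρ y w - w ∈ U}
      one_mem' := ⟨Q.one_mem, fun w _ => by simp⟩
      mul_mem' := fun {y z} hy hz => ⟨mul_mem hy.1 hz.1, fun w hw => by
        rw [map_mul, LinearEquiv.mul_apply,
          show ρ y (ρ z w) - w = ρ y (ρ z w - w) + (ρ y w - w) by rw [map_sub]; abel]
        exact add_mem (hstU hy.1 _ (hz.2 w hw)) (hy.2 w hw)⟩
      inv_mem' := fun {y} hy => ⟨inv_mem hy.1, fun w hw => by
        have h := hy.2 _ (hstW (inv_mem hy.1) w hw)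
        rw [← LinearEquiv.mul_apply, ← map_mul, mul_inv_cancel, map_one, LinearEquiv.coe_one, id] at h
        simpa using neg_mem h⟩ }
  have hKqn : ∀ {y}, y ∈ Q → ∀ z ∈ Kq, y * z * y⁻¹ ∈ Kq := fun {y} hy z hz =>
    ⟨mul_mem (mul_mem hy hz.1) (inv_mem hy), fun w hw => by
      have h := hstU hy _ (hz.2 _ (hstW (inv_mem hy) w hw))
      rw [map_sub, ← LinearEquiv.mul_apply, ← LinearEquiv.mul_apply, ← LinearEquiv.mul_apply, ← map_mul,
        ← map_mul, ← map_mul, mul_inv_cancel, map_one, LinearEquiv.coe_one, id] at h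
      exact h⟩
  let Ke : Subgroup G :=
    { carrier := {y | ∃ z ∈ Kq, ∃ i : ℤ, y = z * e ^ i}
      one_mem' := ⟨1, Kq.one_mem, 0, by simp⟩
      mul_mem' := by
        rintro _ _ ⟨z, hz, i, rfl⟩ ⟨z', hz', j, rfl⟩
        exact ⟨z * (e ^ i * z' * (e ^ i)⁻¹), mul_mem hz (hKqn (zpow_mem heQ i) z' hz'), i + j,
          by rw [zpow_add]; group⟩
      inv_mem' := by
        rintro _ ⟨z, hz, i, rfl⟩
        exact ⟨e ^ (-i) * z⁻¹ * (e ^ (-i))⁻¹, hKqn (zpow_mem heQ (-i)) _ (inv_mem hz), -i, by group⟩ }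
  have hKeQ : Ke ≤ Q := by rintro _ ⟨z, hz, i, rfl⟩; exact mul_mem hz.1 (zpow_mem heQ i)
  have heKe : e ∈ Ke := ⟨1, Kq.one_mem, 1, by simp⟩
  obtain ⟨R₁, heR, hR₁Ke, hR₁p, hR₁idx⟩ := exists_sylow_of_le hep (zpowers_le.2 heKe)
  have heR' : e ∈ R₁ := heR (mem_zpowers e)
  obtain ⟨hR₁M, hR₁N⟩ := hkey heq heD heM R₁ hR₁p ((hR₁Ke.trans hKeQ).trans hQX) heR'
  have hn₀e : n₀ * e * n₀⁻¹ * (e ^ k₀)⁻¹ ∈ Kq := by
    refine ⟨mul_mem (mul_mem (mul_mem hn₀ heQ) (inv_mem hn₀)) (inv_mem (pow_mem heQ _)), fun w hw => ?_⟩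
    have hw' := hstW (inv_mem (pow_mem heQ k₀)) w hw
    have h := hk₀ _ hw'
    rw [← map_inv ρ, ← map_mul, ← map_mul, ← map_pow, ← LinearEquiv.mul_apply, ← LinearEquiv.mul_apply,
      ← map_mul, ← map_mul, mul_inv_cancel, map_one, LinearEquiv.coe_one, id] at h
    exact h
  have hn₀K : n₀ ∈ normalizer (Ke : Set G) := mem_normalizer_fintype fun y hy => by
    obtain ⟨z, hz, i, rfl⟩ := hy
    rw [show n₀ * (z * e ^ i) * n₀⁻¹ = n₀ * z * n₀⁻¹ * (n₀ * e * n₀⁻¹) ^ i by rw [conj_zpow]; group]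
    refine mul_mem ⟨_, hKqn hn₀ z hz, 0, by simp⟩ (zpow_mem ?_ i)
    exact ⟨_, hn₀e, (k₀ : ℤ), by rw [zpow_natCast, inv_mul_cancel_right]⟩
  obtain ⟨k, ⟨z, hz, i, rfl⟩, hkn⟩ := frattini_elem' hR₁p hR₁Ke hR₁idx hn₀K
  set z' := (e ^ i)⁻¹ * z * ((e ^ i)⁻¹)⁻¹ with hz'def
  have hz' : z' ∈ Kq := hKqn (inv_mem (zpow_mem heQ i)) z hz
  set n := z' * n₀ with hn
  have hnQ : n ∈ Q := mul_mem hz'.1 hn₀
  have hnR : n ∈ normalizer (R₁ : Set G) := by
    rw [show n = (e ^ i)⁻¹ * (z * e ^ i * n₀) by rw [hn, hz'def]; group]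
    exact mul_mem (inv_mem (zpow_mem (le_normalizer heR') i)) hkn
  have hnM : n ∈ M := hR₁N n (hQX hnQ) hnR
  have hnW : ∀ w ∈ W, ρ n w - ρ n₀ w ∈ U := fun w hw => by
    rw [hn, map_mul, LinearEquiv.mul_apply]
    exact hz'.2 _ (hstW hn₀ w hw)
  -- the plane
  have huniq : ∀ {c d : ZMod p}, c • v₁ + d • v₂ ∈ U → c = 0 ∧ d = 0 := fun {c d} h => by
    have h1 := sub_mem (hstU heQ _ h) h
    rw [map_add, map_smul, map_smul] at h1
    have h3 : d • v₁ ∈ U := by
      have := sub_mem (sub_mem h1 (U.smul_mem c hev₁)) (U.smul_mem d hev₂)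
      convert this using 1
      simp only [smul_sub, smul_add]
      abel
    have hd : d = 0 := by_contra fun hd => hv₁U (by simpa [hd] using U.smul_mem d⁻¹ h3)
    refine ⟨by_contra fun hc => hv₁U ?_, hd⟩
    rw [hd, zero_smul, add_zero] at h
    simpa [hc] using U.smul_mem c⁻¹ h
  let Rel : G → (Fin 2 → ZMod p) → Prop := fun y c => ∃ hy : y ∈ B,
    Additive.ofMul (⟨y, hy⟩ : B) - (c 0 • v₁ + c 1 • v₂) ∈ U
  have hRelu : ∀ {y c d}, Rel y c → Rel y d → c = d := by
    rintro y c d ⟨hy, h1⟩ ⟨_, h3⟩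
    have h := huniq (c := d 0 - c 0) (d := d 1 - c 1) (by
      have := sub_mem h1 h3
      convert this using 1
      simp only [sub_smul]
      abel)
    funext j
    fin_cases j
    · exact (sub_eq_zero.1 h.1).symm
    · exact (sub_eq_zero.1 h.2).symm
  have hRelW : ∀ {y c}, Rel y c → ∃ hy : y ∈ B, Additive.ofMul (⟨y, hy⟩ : B) ∈ W := by
    rintro y c ⟨hy, h⟩
    refine ⟨hy, ?_⟩
    simpa using add_mem (hUW h) (add_mem (W.smul_mem (c 0) hv₁) (W.smul_mem (c 1) hv₂))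
  have hRelmul : ∀ {y z c d}, Rel y c → Rel z d → Rel (y * z) (c + d) := by
    rintro y z c d ⟨hy, h1⟩ ⟨hz, h3⟩
    refine ⟨mul_mem hy hz, ?_⟩
    have := add_mem h1 h3
    convert this using 1
    rw [show Additive.ofMul (⟨y * z, mul_mem hy hz⟩ : B) =
      Additive.ofMul (⟨y, hy⟩ : B) + Additive.ofMul (⟨z, hz⟩ : B) from rfl]
    simp only [Pi.add_apply, add_smul]
    abel
  have hRel1 : Rel 1 0 := ⟨B.one_mem, by
    rw [show Additive.ofMul (⟨1, B.one_mem⟩ : B) = 0 from rfl]; simp⟩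
  let Vp : Subgroup G :=
    { carrier := {y | ∃ c, Rel y c}
      one_mem' := ⟨0, hRel1⟩
      mul_mem' := fun ⟨c, hc⟩ ⟨d, hd⟩ => ⟨c + d, hRelmul hc hd⟩
      inv_mem' := fun {y} ⟨c, hc⟩ => ⟨-c, inv_mem hc.1, by
        have := neg_mem hc.2
        convert this using 1
        rw [show Additive.ofMul (⟨y⁻¹, inv_mem hc.1⟩ : B) = - Additive.ofMul (⟨y, hc.1⟩ : B) from rfl]
        simp only [Pi.neg_apply, neg_smul]
        abel⟩ }
  let ι : G → (Fin 2 → ZMod p) := fun y => if h : ∃ c, Rel y c then h.choose else 0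
  have hι : ∀ {y c}, Rel y c → ι y = c := fun {y c} h => by
    have h' : ∃ c, Rel y c := ⟨c, h⟩
    simp only [ι, dif_pos h']
    exact hRelu h'.choose_spec h
  -- how an element acting as a given map moves the coordinates
  have hact : ∀ {y v c} (σ : Additive B ≃ₗ[ZMod p] Additive B) (c' : Fin 2 → ZMod p), Rel v c →
      (∀ u ∈ U, σ u ∈ U) → (∀ w ∈ W, ρ y w - σ w ∈ U) →
      σ (c 0 • v₁ + c 1 • v₂) - (c' 0 • v₁ + c' 1 • v₂) ∈ U → Rel (y * v * y⁻¹) c' := by
    intro y v c σ c' hc hσU hyσ hσc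
    obtain ⟨hy, hw⟩ := hRelW hc
    obtain ⟨_, h1⟩ := hc
    refine ⟨(inferInstance : B.Normal).conj_mem v hy y, ?_⟩
    rw [← hρ' y v hy]
    have := add_mem (add_mem (hyσ _ hw) (hσU _ h1)) hσc
    convert this using 1
    rw [map_sub]
    abel
  -- the subgroup
  set R₂ := R₁ ⊔ B with hR₂
  have hR₂p : IsPGroup p R₂ := Cfsg.Lib.Core.isPGroup_sup_of_normal hR₁p hBpg
  have hR₂M : R₂ ≤ M := sup_le hR₁M (hBP.trans hPT)
  have hR₂act : ∀ r ∈ R₂, ∃ i : ℤ, ∀ w ∈ W, ρ r w - ρ (e ^ i) w ∈ U := by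
    intro r hr
    obtain ⟨r₁, hr₁, b, hb, rfl⟩ := mem_sup_of_normal_right.1 hr
    obtain ⟨z, hz, i, rfl⟩ := hR₁Ke hr₁
    refine ⟨i, fun w hw => ?_⟩
    have hbtriv : ρ b w = w := by
      apply Additive.toMul.injective
      apply Subtype.ext
      rw [hρ, hBc b hb _ (Additive.toMul w).2, mul_inv_cancel_right]
    rw [map_mul, LinearEquiv.mul_apply, hbtriv, map_mul, LinearEquiv.mul_apply]
    exact hz.2 _ (hstW (zpow_mem heQ i) w hw)
  have hei : ∀ i : ℤ, ρ (e ^ i) v₁ - v₁ ∈ U ∧ ρ (e ^ i) v₂ - (v₂ + (i : ZMod p) • v₁) ∈ U := by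
    intro i
    induction i using Int.induction_on with
    | zero => simp
    | succ i ih =>
      have he : ∀ w, ρ (e ^ ((i : ℤ) + 1)) w = ρ e (ρ (e ^ (i : ℤ)) w) := fun w => by
        rw [← LinearEquiv.mul_apply, ← map_mul, ← zpow_one_add, add_comm (i : ℤ) 1]
      constructor
      · rw [he]
        have := add_mem (hstU heQ _ ih.1) hev₁
        convert this using 1
        rw [map_sub]; abel
      · rw [he]
        have := add_mem (add_mem (hstU heQ _ ih.2) hev₂) (U.smul_mem ((i : ℤ) : ZMod p) hev₁)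
        convert this using 1
        rw [map_sub, map_add, map_smul, smul_sub, Int.cast_add, Int.cast_one, add_smul, one_smul]
        abel
    | pred i ih =>
      have he : ∀ w, ρ e (ρ (e ^ (-(i : ℤ) - 1)) w) = ρ (e ^ (-(i : ℤ))) w := fun w => by
        rw [← LinearEquiv.mul_apply, ← map_mul, ← zpow_one_add]
        congr 2; ring_nf
      have hback : ∀ u w, ρ e u - ρ e w ∈ U → u - w ∈ U := fun u w h => by
        have := hstU (inv_mem heQ) _ h
        rwa [map_sub, ← LinearEquiv.mul_apply, ← LinearEquiv.mul_apply, ← map_mul, inv_mul_cancel, map_one,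
          LinearEquiv.coe_one, id, id] at this
      constructor
      · refine hback _ _ ?_
        rw [he]
        have := sub_mem ih.1 hev₁
        convert this using 1
        abel
      · refine hback _ _ ?_
        rw [he, map_add, map_smul]
        have := sub_mem (sub_mem ih.2 hev₂) (U.smul_mem (((-(i : ℤ) - 1 : ℤ)) : ZMod p) hev₁)
        convert this using 1
        rw [smul_sub, Int.cast_sub, Int.cast_one, sub_smul, sub_smul, one_smul, one_smul]
        abel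
  let j : G → ZMod p := fun r => if h : ∃ i : ℤ, ∀ w ∈ W, ρ r w - ρ (e ^ i) w ∈ U then (h.choose : ZMod p) else 0
  -- assemble the datum
  have hl0 : l ≠ 0 := by
    rintro rfl
    have := hp.out.two_le
    rw [orderOf_zero] at hl
    omega
  have hnT : ∀ y ∈ T, n * y * n⁻¹ ∈ T := fun y hy => (mem_normalizer_iff.1 hnM y).1 hy
  have hnU : ∀ u ∈ U, ρ n u ∈ U := hstU hnQ
  have hnq : ∀ w ∈ W, ρ n (ρ n w) - (l + l⁻¹) • ρ n w + w ∈ U := fun w hw => by
    have := sub_mem (add_mem (add_mem (hq₀ w hw) (hnU _ (hnW w hw))) (hnW _ (hstW hn₀ w hw)))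
      (U.smul_mem (l + l⁻¹) (hnW w hw))
    convert this using 1
    rw [map_sub, smul_sub]
    abel
  have heig : ∃ k : ℕ, orderOf (k : ZMod p) = p - 1 ∧ ∃ y ∈ T, ∀ w ∈ T, n * w * n⁻¹ * (w ^ k)⁻¹ ≠ y := by
    obtain ⟨t₀, ht₀, ht₀U⟩ := SetLike.not_le_iff_exists.1 hTU
    set φ : ZMod p → Additive B → Additive B := fun c w => ρ n w - c • w with hφ
    have hconv : ∀ (k : ℕ) (w : G) (hw : w ∈ T), Additive.ofMul (⟨n * w * n⁻¹ * (w ^ k)⁻¹, mul_mem (hT (hnT w hw))
        (inv_mem (pow_mem (hT hw) k))⟩ : B) = φ (k : ZMod p) (Additive.ofMul (⟨w, hT hw⟩ : B)) := fun k w hw => by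
      simp only [hφ, hρ', Nat.cast_smul_eq_nsmul, sub_eq_add_neg]
      rfl
    by_cases hc : ∀ w ∈ Tm, φ l⁻¹ w ∈ U
    · refine ⟨(l⁻¹).val, by rw [ZMod.natCast_zmod_val, orderOf_inv_eq, hl],
        ((Additive.toMul t₀ : B) : G), ht₀, fun w hw he => ht₀U ?_⟩
      have h := hconv (l⁻¹).val w hw
      rw [ZMod.natCast_zmod_val] at h
      have e2 : t₀ = φ l⁻¹ (Additive.ofMul (⟨w, hT hw⟩ : B)) := by
        rw [← h]; exact Additive.toMul.injective (Subtype.ext he.symm)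
      rw [e2]
      exact hc _ hw
    · push Not at hc
      obtain ⟨t₁, ht₁, ht₁U⟩ := hc
      refine ⟨l.val, by rw [ZMod.natCast_zmod_val, hl],
        ((Additive.toMul t₁ : B) : G), ht₁, fun w hw he => ht₁U ?_⟩
      have h := hconv l.val w hw
      rw [ZMod.natCast_zmod_val] at h
      have e2 : t₁ = φ l (Additive.ofMul (⟨w, hT hw⟩ : B)) := by
        rw [← h]; exact Additive.toMul.injective (Subtype.ext he.symm)
      rw [e2]
      have := hnq _ (hTW ((hTm w (hT hw)).2 hw))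
      convert this using 1
      simp only [hφ, map_sub, map_smul, smul_sub, smul_smul, add_smul, inv_mul_cancel₀ hl0, one_smul]
      abel
  have hdatum : IsTorusDatum l T R₂ n := by
    refine ⟨hT.trans le_sup_right, fun y hy => ?_, hnT, heig, Vp, ι, j, ?_, ?_, fun c => ?_,
      fun r hr v hv => ?_, fun v hv => ?_, e, mem_sup_left heR', ?_⟩
    · obtain ⟨r₁, hr₁, b, hb, rfl⟩ := mem_sup_of_normal_right.1 hy
      rw [← conj_mul]
      exact mul_mem (mem_sup_left ((mem_normalizer_iff.1 hnR r₁).1 hr₁))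
        (mem_sup_right ((inferInstance : B.Normal).conj_mem b hb n))
    · rintro y ⟨c, hc⟩
      exact mem_sup_right hc.1
    · rintro y ⟨c, hc⟩ z ⟨d, hd⟩
      rw [hι hc, hι hd, hι (hRelmul hc hd)]
    · have hr : Rel ((Additive.toMul (c 0 • v₁ + c 1 • v₂) : B) : G) c :=
        ⟨(Additive.toMul (c 0 • v₁ + c 1 • v₂) : B).2, by rw [Subtype.coe_eta, ofMul_toMul, sub_self]; exact zero_mem _⟩
      exact ⟨_, ⟨c, hr⟩, hι hr⟩
    · obtain ⟨c, hc⟩ := hv
      have hex := hR₂act r hr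
      have hjr : j r = (hex.choose : ZMod p) := by simp only [j, dif_pos hex]
      have h : Rel (r * v * r⁻¹) ![c 0 + j r * c 1, c 1] := by
        refine hact (ρ (e ^ hex.choose)) _ hc (hstU (zpow_mem heQ _)) hex.choose_spec ?_
        have := add_mem (U.smul_mem (c 0) (hei hex.choose).1) (U.smul_mem (c 1) (hei hex.choose).2)
        convert this using 1
        simp only [map_add, map_smul, Matrix.cons_val_zero, Matrix.cons_val_one, hjr, smul_sub, smul_add,
          add_smul, smul_smul, mul_comm (hex.choose : ZMod p)]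
        abel
      rw [hι hc, hι h]
      exact ⟨⟨_, h⟩, rfl⟩
    · obtain ⟨c, hc⟩ := hv
      have h : Rel (n * v * n⁻¹) ![l * c 0, l⁻¹ * c 1] := by
        refine hact (ρ n) _ hc hnU (fun w _ => by simp) ?_
        have := add_mem (U.smul_mem (c 0) (add_mem (hgv₁) (hnW v₁ hv₁)))
          (U.smul_mem (c 1) (add_mem hgv₂ (hnW v₂ hv₂)))
        convert this using 1
        simp only [map_add, map_smul, Matrix.cons_val_zero, Matrix.cons_val_one, smul_sub, smul_add, smul_smul,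
          mul_comm l, mul_comm l⁻¹]
        abel
      rw [hι hc, hι h]
      exact ⟨⟨_, h⟩, rfl⟩
    · have hex := hR₂act e (mem_sup_left heR')
      simp only [j, dif_pos hex]
      have h1 := hex.choose_spec v₂ hv₂
      have h3 := (hei hex.choose).2
      have h := huniq (c := 1 - (hex.choose : ZMod p)) (d := 0) (by
        have := sub_mem (add_mem h1 h3) hev₂
        convert this using 1
        simp only [sub_smul, one_smul, zero_smul]
        abel)
      exact (sub_eq_zero.1 h.1).symm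
  -- conjugate into `P`
  let SP : Sylow p M := (P.isPGroup'.of_equiv (subgroupOfEquivOfLe hPT).symm).toSylow hPidx
  obtain ⟨S', hS'⟩ := (hR₂p.of_equiv (subgroupOfEquivOfLe hR₂M).symm).exists_le_sylow
  obtain ⟨m, hm⟩ := MulAction.exists_smul_eq M S' SP
  have hc : IsTorusDatum l (T.comap (MulAut.conj (m : G)⁻¹).toMonoidHom)
      (R₂.comap (MulAut.conj (m : G)⁻¹).toMonoidHom) ((m : G) * n * (m : G)⁻¹) := by
    refine IsTorusDatum.comap _ (MulAut.conj (m : G)⁻¹).surjective ?_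
    rw [show (MulAut.conj (m : G)⁻¹).toMonoidHom ((m : G) * n * (m : G)⁻¹) = n by simp [mul_assoc]]
    exact hdatum
  have hTc : T.comap (MulAut.conj (m : G)⁻¹).toMonoidHom = T := by
    ext y
    rw [mem_comap]
    simp only [MulEquiv.coe_toMonoidHom, MulAut.conj_apply]
    exact (mem_normalizer_iff.1 (inv_mem m.2) y).symm
  rw [hTc] at hc
  refine ⟨_, _, fun y hy => ?_, mul_mem (mul_mem m.2 hnM) (inv_mem m.2), hc⟩
  rw [mem_comap] at hy
  simp only [MulEquiv.coe_toMonoidHom, MulAut.conj_apply, inv_inv] at hy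
  have h1 : m * ⟨_, hR₂M hy⟩ * m⁻¹ ∈ (SP : Subgroup M) := by
    rw [← hm]; exact ⟨_, hS' (hy : (⟨_, hR₂M hy⟩ : M) ∈ R₂.subgroupOf M), rfl⟩
  have h3 := mem_subgroupOf.1 h1
  simpa [mul_assoc] using h3

end Cfsg.Lib.Local.QuadTorus
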